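import Groth.Agent.AmpleFinGenLib.Divisor
import Groth.Agent.SDivLib.FlatDiv

/-!
# The ideal of a sum of effective Cartier divisors
-/

set_option autoImplicit false
set_option linter.style.haveILetI false
set_option backward.isDefEq.respectTransparency false
universe u

open CategoryTheory CategoryTheory.Limits AlgebraicGeometry TopologicalSpace Opposite
open AmpleLib AmpleThLib
open DevissLib (gm gm_map gm_smul gm_zero exists_gm_eq)

noncomputable section

namespace SurfNumLib

variable {X : Scheme.{u}}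

theorem genOn_of_generator (I : X.IdealSheafData) (U : X.affineOpens) {a : Γ(X, U)}
    (ha : a ∈ nonZeroDivisors Γ(X, U)) (hIU : I.ideal U = Ideal.span {a}) {σ : Γ(ClSub.idealMod I, U.1)}
    (hσ : (ClSub.idealModι I).app U.1 σ = a) : GenOn (ClSub.idealMod I) σ := by
  refine TwistLib.genOn_of_genAt fun y hy => ?_
  have hU := U.2
  have hnzd : X.presheaf.germ U.1 y hy a ∈ nonZeroDivisors (X.presheaf.stalk y) := by
    letI := TopCat.Presheaf.algebra_section_stalk X.presheaf ⟨y, hy⟩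
    haveI := hU.isLocalization_stalk ⟨y, hy⟩
    exact IsLocalization.map_nonZeroDivisors_le (hU.primeIdealOf ⟨y, hy⟩).asIdeal.primeCompl _
      (Submonoid.mem_map_of_mem (algebraMap Γ(X, U.1) (X.presheaf.stalk y)).toMonoidHom ha)
  refine ⟨fun c c' h => ?_, fun b => ?_⟩
  · rw [← sub_eq_zero]
    have h0 : (c - c') • gm (ClSub.idealMod I) y hy σ = 0 := (sub_smul _ _ _).trans (sub_eq_zero.mpr h)
    obtain ⟨W, hyW, d, hd⟩ := TopCat.Presheaf.exists_germ_eq X.presheaf (x := y) (c - c')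
    have hWU : W ⊓ U.1 ≤ U.1 := inf_le_right
    have hyI : y ∈ W ⊓ U.1 := ⟨hyW, hy⟩
    let d' : Γ(X, W ⊓ U.1) := X.presheaf.map (homOfLE inf_le_left).op d
    let σ' : Γ(ClSub.idealMod I, W ⊓ U.1) := (ClSub.idealMod I).presheaf.map (homOfLE hWU).op σ
    have hd' : X.presheaf.germ (W ⊓ U.1) y hyI d' = c - c' :=
      (TopCat.Presheaf.germ_res_apply X.presheaf _ y hyI d).trans hd
    have h1 : gm (ClSub.idealMod I) y hyI (d' • σ') = gm (ClSub.idealMod I) y hyI 0 :=
      (gm_smul _ y hyI d' σ').trans ((congrArg₂ (· • ·) hd' (gm_map _ hWU y hyI σ)).trans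
        (h0.trans (gm_zero _ y hyI).symm))
    obtain ⟨O, hyO, i₁, i₂, hO⟩ := TopCat.Presheaf.germ_eq (ClSub.idealMod I).presheaf y _ _ _ _ h1
    have h2 := congrArg (fun s => (ClSub.idealModι I).app O s) hO
    simp only [QCohLib.app_map, map_zero] at h2
    have h3 : X.presheaf.map i₁.op (d' * X.presheaf.map (homOfLE hWU).op a) = 0 := by
      refine Eq.trans (congrArg (X.presheaf.map i₁.op) ?_) h2
      refine Eq.trans ?_ (IntMultLib.idealModι_smul I _ d' σ').symm
      congr 1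
      exact ((QCohLib.app_map (ClSub.idealModι I) (homOfLE hWU) σ).trans (congrArg _ hσ)).symm
    have h4 := congrArg (X.presheaf.germ O y hyO) h3
    rw [TopCat.Presheaf.germ_res_apply, map_mul, map_zero, hd', TopCat.Presheaf.germ_res_apply] at h4
    exact (mem_nonZeroDivisors_iff_right.mp hnzd) _ h4
  · obtain ⟨W, hyW, t, rfl⟩ := exists_gm_eq (ClSub.idealMod I) y b
    obtain ⟨g, hgW, hyg⟩ := QCohLib.exists_basicOpen_nhd hU hyW hy
    let V : X.affineOpens := X.affineBasicOpen g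
    let t' : Γ(ClSub.idealMod I, V.1) := (ClSub.idealMod I).presheaf.map (homOfLE hgW).op t
    have ht' : (show Γ(X, V.1) from (ClSub.idealModι I).app V.1 t') ∈ I.ideal V :=
      (IntMultLib.toSubscheme_app_eq_zero_iff I V _).mp
        (ConcreteCategory.congr_hom (congrArg (fun φ : ClSub.idealMod I ⟶ ClSub.quotMod I => φ.app V.1)
          (kernel.condition (ClSub.toSubscheme I))) t')
    have hVU : V.1 ≤ U.1 := X.basicOpen_le g
    rw [← I.map_ideal (U := V) (V := U) hVU, hIU, Ideal.map_span, Set.image_singleton] at ht'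
    obtain ⟨c, hc⟩ := Ideal.mem_span_singleton'.mp ht'
    have hyV : y ∈ V.1 := hyg
    have he : c • (ClSub.idealMod I).presheaf.map (homOfLE hVU).op σ = t' := by
      refine IntMultLib.idealModι_app_injective I V.1 ((IntMultLib.idealModι_smul I V.1 c _).trans (Eq.trans ?_ hc))
      congr 1
      exact (QCohLib.app_map (ClSub.idealModι I) (homOfLE hVU) σ).trans (congrArg _ hσ)
    refine ⟨X.presheaf.germ V.1 y hyV c, ?_⟩
    exact (congrArg (X.presheaf.germ V.1 y hyV c • ·) (gm_map _ hVU y hyV σ).symm).trans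
      ((gm_smul _ y hyV c _).symm.trans ((congrArg (gm (ClSub.idealMod I) y hyV) he).trans (gm_map _ hgW y hyV t)))

theorem exists_iso_cov {M N : X.Modules} {ι : Type*} (D : ι → X.Opens) (e : ∀ a, Γ(M, D a))
    (f : ∀ a, Γ(N, D a)) (hcov : ∀ x : X, ∃ a, x ∈ D a) (he : ∀ a, GenOn M (e a))
    (hf : ∀ a, GenOn N (f a))
    (hc : ∀ (a b : ι) (V : X.Opens) (ha : V ≤ D a) (hb : V ≤ D b), ∃ c : Γ(X, V),
      c • res M ha (e a) = res M hb (e b) ∧ c • res N ha (f a) = res N hb (f b)) :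
    ∃ φ : M ≅ N, (∀ a, φ.hom.app (D a) (e a) = f a) ∧ ∀ x : X, ∃ a, x ∈ D a := by
  obtain ⟨φ, hφ⟩ := exists_iso_gens D e f hcov he hf hc
  exact ⟨φ, hφ, hcov⟩

/-- The value of a section of an ideal module. -/
def val (I : X.IdealSheafData) {U : X.Opens} (t : Γ(ClSub.idealMod I, U)) : Γ(X, U) :=
  (ClSub.idealModι I).app U t

theorem val_res (I : X.IdealSheafData) {U V : X.Opens} (h : V ≤ U) (t : Γ(ClSub.idealMod I, U)) :
    val I (res (ClSub.idealMod I) h t) = X.presheaf.map (homOfLE h).op (val I t) :=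
  QCohLib.app_map (ClSub.idealModι I) (homOfLE h) t

theorem val_smul (I : X.IdealSheafData) {U : X.Opens} (r : Γ(X, U)) (t : Γ(ClSub.idealMod I, U)) :
    val I (r • t) = r * val I t := IntMultLib.idealModι_smul I U r t

theorem exists_idealMod_mul {I J : X.IdealSheafData} (hI : BlowUp.IsEffCartierIdeal I)
    (hJ : BlowUp.IsEffCartierIdeal J) :
    let ι := (W : X.affineOpens) × {p : Γ(ClSub.idealMod I, W.1) × Γ(ClSub.idealMod J, W.1) × Γ(ClSub.idealMod (I * J), W.1) //
      GenOn (ClSub.idealMod I) p.1 ∧ GenOn (ClSub.idealMod J) p.2.1 ∧ GenOn (ClSub.idealMod (I * J)) p.2.2 ∧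
        val I p.1 * val J p.2.1 = val (I * J) p.2.2}
    ∃ φ : CohB1.tensorMod (ClSub.idealMod I) (ClSub.idealMod J) ≅ ClSub.idealMod (I * J),
      (∀ a : ι, φ.hom.app a.1.1 (shT a.2.1.1 a.2.1.2.1) = a.2.1.2.2) ∧ ∀ x : X, ∃ a : ι, x ∈ a.1.1 := by
  intro ι
  refine exists_iso_cov (fun a : ι => a.1.1) (fun a => shT a.2.1.1 a.2.1.2.1)
    (fun a => a.2.1.2.2) (fun x => ?_)
    (fun a => shT_genOn a.2.2.1 a.2.2.2.1) (fun a => a.2.2.2.2.1) (fun a b V ha hb => ?_)
  · obtain ⟨U₁, hx₁, a, ha, hI₁⟩ := hI x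
    obtain ⟨U₂, hx₂, b, hb, hJ₂⟩ := hJ x
    obtain ⟨f, g, hfg, hxf⟩ := exists_basicOpen_le_affine_inter U₁.2 U₂.2 x ⟨hx₁, hx₂⟩
    let V : X.affineOpens := X.affineBasicOpen f
    have h₁ : V.1 ≤ U₁.1 := X.basicOpen_le f
    have h₂ : V.1 ≤ U₂.1 := hfg.le.trans (X.basicOpen_le g)
    let a' : Γ(X, V.1) := X.presheaf.map (homOfLE h₁).op a
    let b' : Γ(X, V.1) := X.presheaf.map (homOfLE h₂).op b
    have hIV : I.ideal V = Ideal.span {a'} := by
      rw [← I.map_ideal (U := V) (V := U₁) h₁, hI₁, Ideal.map_span, Set.image_singleton]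
      rfl
    have hJV : J.ideal V = Ideal.span {b'} := by
      rw [← J.map_ideal (U := V) (V := U₂) h₂, hJ₂, Ideal.map_span, Set.image_singleton]
      rfl
    have hIJV : (I * J).ideal V = Ideal.span {a' * b'} := by
      rw [Scheme.IdealSheafData.ideal_mul, Pi.mul_apply, hIV, hJV, Ideal.span_singleton_mul_span_singleton]
    have ha' : a' ∈ nonZeroDivisors Γ(X, V.1) :=
      haveI := U₁.2.isLocalization_basicOpen f
      IsLocalization.map_nonZeroDivisors_le (Submonoid.powers f) Γ(X, X.basicOpen f) (Submonoid.mem_map_of_mem _ ha)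
    have hb' : b' ∈ nonZeroDivisors Γ(X, V.1) := by
      have hg : X.presheaf.map (homOfLE (X.basicOpen_le g)).op b ∈ nonZeroDivisors Γ(X, X.basicOpen g) :=
        haveI := U₂.2.isLocalization_basicOpen g
        IsLocalization.map_nonZeroDivisors_le (Submonoid.powers g) Γ(X, X.basicOpen g) (Submonoid.mem_map_of_mem _ hb)
      have e : b' = X.presheaf.map (homOfLE hfg.le).op (X.presheaf.map (homOfLE (X.basicOpen_le g)).op b) :=
        (by rw [← CommRingCat.comp_apply, ← Functor.map_comp]; rfl)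
      rw [e]
      haveI : IsIso (X.presheaf.map (homOfLE hfg.le).op) := by
        have : (homOfLE hfg.le).op = eqToHom (congrArg op hfg.symm) := Subsingleton.elim _ _
        rw [this, eqToHom_map]; infer_instance
      refine mem_nonZeroDivisors_iff_right.mpr fun z hz => ?_
      obtain ⟨z', rfl⟩ := (ConcreteCategory.bijective_of_isIso (X.presheaf.map (homOfLE hfg.le).op)).2 z
      replace hz : X.presheaf.map (homOfLE hfg.le).op (z' * X.presheaf.map (homOfLE (X.basicOpen_le g)).op b) = 0 :=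
        (map_mul (X.presheaf.map (homOfLE hfg.le).op).hom z' _).trans hz
      rw [mem_nonZeroDivisors_iff_right.mp hg z'
        ((ConcreteCategory.bijective_of_isIso (X.presheaf.map (homOfLE hfg.le).op)).1 (hz.trans (map_zero _).symm)), map_zero]
    obtain ⟨s, hs⟩ := IntMultLib.exists_section I V (hIV ▸ Ideal.mem_span_singleton_self a')
    obtain ⟨t, ht⟩ := IntMultLib.exists_section J V (hJV ▸ Ideal.mem_span_singleton_self b')
    obtain ⟨r, hr⟩ := IntMultLib.exists_section (I * J) V (hIJV ▸ Ideal.mem_span_singleton_self (a' * b'))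
    refine ⟨⟨V, (s, t, r), genOn_of_generator I V ha' hIV hs, genOn_of_generator J V hb' hJV ht,
      genOn_of_generator (I * J) V (mul_mem ha' hb') hIJV hr, ?_⟩, hxf⟩
    simp only [val]
    rw [hs, ht, hr]
  · obtain ⟨W, ⟨⟨sa, ta, ra⟩, hsa, hta, hra, hca⟩⟩ := a
    obtain ⟨W', ⟨⟨sb, tb, rb⟩, hsb, htb, hrb, hcb⟩⟩ := b
    dsimp only at hca hcb hsa hta hra hsb htb hrb ha hb ⊢
    obtain ⟨u, hu⟩ := (hsa V ha).2 (res _ hb sb)
    obtain ⟨v, hv⟩ := (hta V ha).2 (res _ hb tb)
    dsimp only at hu hv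
    refine ⟨u * v, ?_, ?_⟩
    · rw [shT_res, shT_res, ← hu, ← hv]
      exact (shT_smul u v _ _).symm
    · refine IntMultLib.idealModι_app_injective (I * J) V ?_
      change val (I * J) ((u * v) • res _ ha ra) = val (I * J) (res _ hb rb)
      rw [val_smul, val_res, ← hca, map_mul, val_res, ← hcb, map_mul, ← val_res I hb, ← val_res J hb, ← hu, ← hv,
        val_smul, val_smul, val_res, val_res]
      ring

theorem nonempty_idealMod_mul {I J : X.IdealSheafData} (hI : BlowUp.IsEffCartierIdeal I)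
    (hJ : BlowUp.IsEffCartierIdeal J) :
    Nonempty (CohB1.tensorMod (ClSub.idealMod I) (ClSub.idealMod J) ≅ ClSub.idealMod (I * J)) :=
  let ⟨φ, _⟩ := exists_idealMod_mul hI hJ
  ⟨φ⟩

end SurfNumLib
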