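import Groth.Agent.HodgeIdxLib.Reduce
import Groth.Agent.IntMultLib.Dim0
import Groth.Agent.FormalCohLib.ProjAmple
import Groth.Agent.ProjDegLib.Criterion
import Groth.Agent.AmpleDevLib.Pull

/-!
# Intersection numbers of invertible modules on a surface
-/

set_option autoImplicit false
set_option linter.style.haveILetI false
universe u

open CategoryTheory CategoryTheory.Limits AlgebraicGeometry TopologicalSpace Opposite
open HilbPolyLib DevissLib IntMultLib IntFunLib HodgeIdxLib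
open KFlatLib (pb)

noncomputable section

namespace SurfNumLib

variable {k : Type u} [Field k] {X : Scheme.{u}} [X.Over (Spec (CommRingCat.of k))]

theorem isProper_of_embedding {n : ℕ} (ι : X ⟶ CohB1.ProjSpace n k) [IsClosedImmersion ι]
    (hι : ι ≫ CohB1.ProjSpace.toSpec n k = X ↘ Spec (CommRingCat.of k)) :
    IsProper (X ↘ Spec (CommRingCat.of k)) := by
  haveI : IsProper (CohB1.ProjSpace.toSpec n k) := ProjDegLib.toSpec_isProper k n
  rw [← hι]; infer_instance

theorem isAmple_embedding {n : ℕ} (ι : X ⟶ CohB1.ProjSpace n k) [IsClosedImmersion ι] :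
    CohB1.IsAmple ((Scheme.Modules.pullback ι).obj (Twist.twistProjSpace n k 1)) :=
  AmpleDevLib.isAmple_pb (f := ι) (FormalCohLib.isAmple_twistProjSpace n k).1
    (FormalCohLib.isAmple_twistProjSpace n k)

variable [IsProper (X ↘ Spec (CommRingCat.of k))]

theorem intNum_eq_pr {d : ℕ} (hd : topologicalKrullDim X ≤ (d : ℕ)) (A B : X.Modules) :
    FGA.intNum k X d ![A, B] (Coh.structureModule X) = pr k A B := by
  have h := N_ofFn (k := k) hd ![A, B] (Coh.structureModule X)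
  rw [show List.ofFn ![A, B] = [A, B] by simp] at h
  rw [pr, h]; ring

theorem intNum_eq_pr_two (hdim : topologicalKrullDim X = 2) (A B : X.Modules) :
    FGA.intNum k X 2 ![A, B] (Coh.structureModule X) = pr k A B :=
  intNum_eq_pr hdim.le A B

variable (hX : topologicalKrullDim X ≤ (2 : ℕ))

include hX

theorem pr_inv_inv {A A' B B' : X.Modules} (hA : PicF.IsInvertible A) (hB : PicF.IsInvertible B)
    (eA : CohB1.tensorMod A A' ≅ Coh.structureModule X) (eB : CohB1.tensorMod B B' ≅ Coh.structureModule X) :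
    pr k A' B' = pr k A B := by
  have hA' := IntMultLib.isInvertible_of_inverse hA eA
  have hB' := IntMultLib.isInvertible_of_inverse hB eB
  rw [pr_inverse hX hA hA' hB' eA, pr_comm A B', pr_inverse hX hB hB' hA eB, pr_comm B A, neg_neg]

omit hX

variable [IsIntegral X]

/-- Positive square and nonnegative degree give sections in high powers. -/
theorem exists_section_pow (hX2 : topologicalKrullDim X = ((2 : ℕ) : WithBot ℕ∞)) {D A : X.Modules}
    (hD : PicF.IsInvertible D) (hA : CohB1.IsAmple A) (hq : 0 < pr k D D) (h : 0 ≤ pr k D A) :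
    ∃ m₀ : ℕ, ∀ m, m₀ ≤ m → Nontrivial (Coh.HH X (CohB1.tensorPow D m) 0) := by
  obtain ⟨m₀, hm₀⟩ := exists_section (k := k) hX2 hD hA hq h
  refine ⟨m₀, fun m hm => ?_⟩
  obtain ⟨φ, hφ⟩ := hm₀ m hm
  by_contra hnt
  rw [not_nontrivial_iff_subsingleton] at hnt
  refine hφ ?_
  have hs : Subsingleton Γ(CohB1.tensorPow D m, ⊤) := ((QCohLib.hEquiv ((QCohLib.toAbF X).obj (CohB1.tensorPow D m)) 0).trans
    (QCohLib.h0 (U := (⊤ : Opens X.toTopCat)))).toEquiv.subsingleton_congr.mp hnt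
  have h1 : QCohLib.unitHom (Coh.structureModule X) (1 : Γ(X, ⊤)) = 𝟙 _ := by
    apply Scheme.Modules.hom_ext
    intro V
    refine ConcreteCategory.hom_ext _ _ fun r => ?_
    rw [QCohLib.unitHom_app]
    refine Eq.trans ?_ (mul_one (show Γ(X, V) from r))
    exact congrArg (fun t : Γ(X, V) => (show Γ(X, V) from r) * t) (map_one (X.presheaf.map (homOfLE (le_top : V ≤ ⊤)).op).hom)
  rw [← Category.id_comp φ, ← h1, QCohLib.app_unitHom_app, Subsingleton.elim (φ.app ⊤ (1 : Γ(X, ⊤))) 0]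
  apply Scheme.Modules.hom_ext
  intro V
  refine ConcreteCategory.hom_ext _ _ fun r => ?_
  rw [QCohLib.unitHom_app, map_zero, smul_zero]
  rfl

theorem pr_pos_of_square (hX2 : topologicalKrullDim X = ((2 : ℕ) : WithBot ℕ∞)) {D A : X.Modules}
    (hD : PicF.IsInvertible D) (hA : CohB1.IsAmple A) (hq : 0 < pr k D D) : pr k D A ≠ 0 := fun h0 => by
  have := light (k := k) hX2 hD hA h0
  exact absurd hq (not_lt.mpr this)

theorem pr_pos_of_section (hX2 : topologicalKrullDim X = ((2 : ℕ) : WithBot ℕ∞)) {D A : X.Modules}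
    (hD : PicF.IsInvertible D) (hA : CohB1.IsAmple A) (hq : 0 < pr k D D) {m : ℕ} (hm : 0 < m)
    (hs : Nontrivial (Coh.HH X (CohB1.tensorPow D m) 0)) : 0 < pr k D A := by
  obtain ⟨φ, hφ⟩ := CurvLib.exists_hom_ne_zero (L := CohB1.tensorPow D m) hs
  have h := nonneg_of_section (k := k) hX2 (AmpleThLib.tensorPow_isInvertible hD m) hA hφ
  rw [N2_pow_left hX2.le hD hA.1] at h
  refine lt_of_le_of_ne ?_ (pr_pos_of_square hX2 hD hA hq).symm
  exact nonneg_of_mul_nonneg_right h (by exact_mod_cast hm)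

/-- The second cohomology of a module with a section on one side is bounded by the other. -/
theorem hh2_mul_le (hX2 : topologicalKrullDim X = ((2 : ℕ) : WithBot ℕ∞)) {P T : X.Modules}
    (hP : PicF.IsInvertible P) (hT : PicF.IsInvertible T) {φ : Coh.structureModule X ⟶ P} (hφ : φ ≠ 0) :
    hh k (CohB1.tensorMod T P) 2 ≤ hh k T 2 := by
  obtain ⟨hc, hd⟩ := dim_cokernel_le k (n := 1) hX2 hP hφ
  have h := ses_cok (k := k) hP hT hφ hc 2
  rw [hh_two_eq_zero (k := k) (M := CohB1.tensorMod T (cokernel φ)) (HilbPolyLib.isCoh_tensor hT hc)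
    (by rw [HilbPolyLib.support_tensor hT]; exact hd) le_rfl] at h
  exact h

/-- Quadratic growth. -/
theorem exists_growth (hX2 : topologicalKrullDim X = ((2 : ℕ) : WithBot ℕ∞)) {D A : X.Modules}
    (hD : PicF.IsInvertible D) (hA : CohB1.IsAmple A) (hq : 0 < pr k D D) (h : 0 ≤ pr k D A) :
    ∃ c : ℚ, 0 < c ∧ ∃ m₀ : ℕ, ∀ m : ℕ, m₀ ≤ m →
      c * (m : ℚ) ^ 2 < (Module.finrank k (Coh.HH X (CohB1.tensorPow D m) 0) : ℚ) := by
  haveI := CurvLib.isNoetherian k (X := X)
  obtain ⟨M, hM⟩ := exists_section (k := k) hX2 hD hA hq h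
  obtain ⟨B, hB⟩ : ∃ B : ℕ, ∀ r < M + 1, hh k (CohB1.tensorPow D r) 2 ≤ B :=
    ⟨∑ r ∈ Finset.range (M + 1), hh k (CohB1.tensorPow D r) 2, fun r hr =>
      Finset.single_le_sum (f := fun r => hh k (CohB1.tensorPow D r) 2) (fun _ _ => Nat.zero_le _)
        (Finset.mem_range.mpr hr)⟩
  obtain ⟨φ, hφ⟩ := hM (M + 1) (by omega)
  have hbd : ∀ m, hh k (CohB1.tensorPow D m) 2 ≤ B := by
    intro m
    induction m using Nat.strong_induction_on with
    | _ m ih =>
      by_cases hm : m < M + 1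
      · exact hB m hm
      obtain ⟨r, rfl⟩ : ∃ r, m = r + (M + 1) := ⟨m - (M + 1), by omega⟩
      obtain ⟨e⟩ := IntMultLib.nonempty_tensorPow_add D r (M + 1)
      rw [hh_congr (k := k) e 2]
      exact (hh2_mul_le hX2 (AmpleThLib.tensorPow_isInvertible hD _) (AmpleThLib.tensorPow_isInvertible hD _) hφ).trans
        (ih r (by omega))
  obtain ⟨q, hq'⟩ : ∃ q : ℤ, pr k D D = q := ⟨_, rfl⟩
  obtain ⟨a, ha⟩ : ∃ a : ℤ, 2 * (Curv2.euler k X D - Curv2.euler k X (Coh.structureModule X)) - q = a := ⟨_, rfl⟩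
  obtain ⟨c, hc⟩ : ∃ c : ℤ, 2 * Curv2.euler k X (Coh.structureModule X) = c := ⟨_, rfl⟩
  refine ⟨1 / 4, by norm_num, (|a| + |c| + 2 * (B : ℤ)).toNat * 2 + 2, fun m hm => ?_⟩
  have hR := euler_pow (k := k) hX2.le hD m
  have hE : Curv2.euler k X (CohB1.tensorPow D m) ≤ (hh k (CohB1.tensorPow D m) 0 : ℤ) + B := by
    rw [CurvLib.euler_eq_sum (d := 3) fun i hi =>
      CurvLib.subsingleton_HH_of_dim_le (CohB1.tensorPow D m) hX2.le i (by omega)]
    rw [Finset.sum_range_succ, Finset.sum_range_succ, Finset.sum_range_one]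
    have h2 : (hh k (CohB1.tensorPow D m) 2 : ℤ) ≤ B := by exact_mod_cast hbd m
    change (-1 : ℤ) ^ 0 * (hh k (CohB1.tensorPow D m) 0 : ℤ) + (-1 : ℤ) ^ 1 * (hh k (CohB1.tensorPow D m) 1 : ℤ) +
      (-1 : ℤ) ^ 2 * (hh k (CohB1.tensorPow D m) 2 : ℤ) ≤ _
    push_cast
    linarith [Int.natCast_nonneg (hh k (CohB1.tensorPow D m) 1)]
  have hqD : N k [D, D] (Coh.structureModule X) = q := hq'
  rw [hqD] at hR
  have hm2 : (|a| + |c| + 2 * (B : ℤ)) * 2 + 2 ≤ (m : ℤ) := by
    have h1 := Int.self_le_toNat (|a| + |c| + 2 * (B : ℤ))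
    have h2 : (((|a| + |c| + 2 * (B : ℤ)).toNat * 2 + 2 : ℕ) : ℤ) ≤ (m : ℤ) := by exact_mod_cast hm
    push_cast at h2
    linarith
  have hq0 : 1 ≤ q := by omega
  have hkey : (m : ℤ) * m < 4 * (hh k (CohB1.tensorPow D m) 0 : ℤ) := by
    have e : 2 * Curv2.euler k X (CohB1.tensorPow D m) = (m : ℤ) * m * q + m * a + c := by
      rw [← ha, ← hc, hR]; ring
    nlinarith [neg_abs_le a, neg_abs_le c, abs_nonneg a, abs_nonneg c, Int.natCast_nonneg B,
      mul_nonneg (mul_self_nonneg (m : ℤ)) (by omega : (0 : ℤ) ≤ q - 1)]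
  have hk' : ((m : ℚ) * m) < 4 * (hh k (CohB1.tensorPow D m) 0 : ℚ) := by exact_mod_cast hkey
  change 1 / 4 * (m : ℚ) ^ 2 < (hh k (CohB1.tensorPow D m) 0 : ℚ)
  nlinarith

end SurfNumLib
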