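import Groth.Agent.SurfNumLib.Proper
import Groth.Agent.PicH1Lib.FlatIdeal
import Groth.Agent.AlgEquivCurveLib.Curve
import Groth.Agent.CurveBCLib.Twist
import Groth.Agent.AVAmpleLib.ProdAV

/-!
# Intersection numbers on a product of two curves
-/

set_option autoImplicit false
set_option linter.style.haveILetI false
universe u

open CategoryTheory CategoryTheory.Limits AlgebraicGeometry TopologicalSpace Opposite
open HilbPolyLib DevissLib IntMultLib IntFunLib HodgeIdxLib PicH1Lib
open KFlatLib (pb puSec)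

noncomputable section

namespace SurfNumLib

section
variable {S T : Scheme.{u}} (f : T ⟶ S) [Flat f] (K : S.IdealSheafData)

theorem isIso_toComap_flat : IsIso (toComap f K) := by
  haveI : Mono (toComap f K) := mono_of_mono_fac (toComap_ι f K)
  haveI : Epi (toComap f K) := by
    refine QCohLib.epi_of_surjective_on_affines _ fun V s p hp => ?_
    obtain ⟨W, hW, hpW, -⟩ := exists_isAffineOpen_mem_and_subset (show f p ∈ (⊤ : S.Opens) from trivial)
    obtain ⟨U, hU, hpU, hUW⟩ := exists_isAffineOpen_mem_and_subset (show p ∈ V ⊓ f ⁻¹ᵁ W from ⟨hp, hpW⟩)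
    have hUV : U ≤ V := fun x hx => (hUW hx).1
    refine ⟨U, hUV, hpU, ?_⟩
    let J := K.comap f
    let s' := AmpleLib.res (ClSub.idealMod J) hUV s
    let b : Γ(T, U) := idVal J s'
    have hb : b ∈ J.ideal ⟨U, hU⟩ := by
      rw [← congrArg (fun I : T.IdealSheafData => I.ideal ⟨U, hU⟩) J.ker_subschemeι, Scheme.Hom.ker_apply, RingHom.mem_ker]
      exact app_idVal J s'
    have hle : U ≤ f ⁻¹ᵁ W := fun x hx => (hUW hx).2
    rw [Groth.Agent.S4666.ideal_comap_eq K f ⟨W, hW⟩ ⟨U, hU⟩ hle] at hb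
    suffices h : ∃ t, (pullIdeal f K).app U t = b by
      obtain ⟨t, ht⟩ := h
      refine ⟨t, idVal_injective J U ?_⟩
      rw [idVal, ← ConcreteCategory.comp_apply, ← Scheme.Modules.Hom.comp_app, toComap_ι]
      exact ht
    refine Submodule.span_induction (p := fun y _ => ∃ t, (pullIdeal f K).app U t = y) ?_ ?_ ?_ ?_ hb
    · intro y hy
      obtain ⟨a, ha, rfl⟩ := hy
      obtain ⟨m, rfl⟩ := exists_idVal K (V := W) (b := a) (by
        rw [SetLike.mem_coe, ← congrArg (fun I : S.IdealSheafData => I.ideal ⟨W, hW⟩) K.ker_subschemeι,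
          Scheme.Hom.ker_apply, RingHom.mem_ker] at ha
        exact ha)
      refine ⟨AmpleLib.res _ hle (puSec f m), ?_⟩
      exact (QCohLib.app_map (pullIdeal f K) (homOfLE hle) (puSec f m)).trans
        (congrArg (T.presheaf.map (homOfLE hle).op) (pullIdeal_puSec f K m))
    · exact ⟨0, map_zero _⟩
    · intro y z _ _ hy hz
      obtain ⟨t, rfl⟩ := hy
      obtain ⟨t', rfl⟩ := hz
      exact ⟨t + t', map_add _ _ _⟩
    · intro r y _ hy
      obtain ⟨t, rfl⟩ := hy
      exact ⟨(r : Γ(T, U)) • t, QCohLib.app_smul _ _ _ _⟩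
  exact isIso_of_mono_of_epi _

end

/-- The direct image along a closed immersion is the quotient by its ideal. -/
theorem quotMod_ker_iso {C X : Scheme.{u}} (i : C ⟶ X) [IsClosedImmersion i] :
    Nonempty (ClSub.quotMod i.ker ≅ (Coh.push i).obj (Coh.structureModule C)) := by
  haveI : IsIso i.toImage := inferInstance
  haveI : IsIso (ClSub.unitToPush i.toImage) :=
    CohCmpLib.isIso_unitToPush_of_app _ fun U => inferInstance
  refine ⟨(Scheme.Modules.pushforward i.imageι).mapIso (asIso (ClSub.unitToPush i.toImage)) ≪≫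
    (Scheme.Modules.pushforwardComp i.toImage i.imageι).app _ ≪≫
    eqToIso (congrArg (fun g => (Scheme.Modules.pushforward g).obj (Coh.structureModule C)) i.toImage_imageι)⟩

variable {k : Type u} [Field k]

theorem trivial_spec_field {M : (Spec (CommRingCat.of k)).Modules} (hM : PicF.IsInvertible M) :
    Nonempty (M ≅ Coh.structureModule (Spec (CommRingCat.of k))) := by
  obtain ⟨U, e, hx, he⟩ := TwistLib.exists_genOn hM (IsLocalRing.closedPoint k)
  have hU : U = ⊤ := eq_top_iff.mpr fun y _ => by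
    rw [Subsingleton.elim y (IsLocalRing.closedPoint k)]
    exact hx
  subst hU
  haveI := AmpleLib.isIso_unitHom e he
  exact ⟨(asIso (QCohLib.unitHom M e)).symm⟩

variable {C C' S : Scheme.{u}} [C.Over (Spec (CommRingCat.of k))] [C'.Over (Spec (CommRingCat.of k))]
  [S.Over (Spec (CommRingCat.of k))]
  [IsProper (C ↘ Spec (CommRingCat.of k))] [IsProper (C' ↘ Spec (CommRingCat.of k))]
  [IsProper (S ↘ Spec (CommRingCat.of k))]
  [Smooth (C ↘ Spec (CommRingCat.of k))] [Smooth (C' ↘ Spec (CommRingCat.of k))]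
  [GeometricallyConnected (C' ↘ Spec (CommRingCat.of k))]

/-- The fibre over a rational point of the second factor. -/
theorem exists_fibre (hd : topologicalKrullDim C = 1) (hd' : topologicalKrullDim C' = 1) {p : S ⟶ C} {q : S ⟶ C'}
    (hpb : IsPullback p q (C ↘ Spec (CommRingCat.of k)) (C' ↘ Spec (CommRingCat.of k)))
    (hp : p ≫ (C ↘ Spec (CommRingCat.of k)) = S ↘ Spec (CommRingCat.of k))
    (y : Spec (CommRingCat.of k) ⟶ C') (hy : y ≫ (C' ↘ Spec (CommRingCat.of k)) = 𝟙 _)
    (i : C ⟶ S) (h₁ : i ≫ p = 𝟙 C) (h₂ : i ≫ q = (C ↘ Spec (CommRingCat.of k)) ≫ y) :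
    ∃ F : S.Modules, PicF.IsInvertible F ∧
      (∀ T : S.Modules, PicF.IsInvertible T → pr k F T = -Curv2.deg k C (pb i T) 1) ∧
      Curv2.deg k C (pb i F) 1 = 0 ∧
      ∀ j : C' ⟶ S, j ≫ q = 𝟙 C' → Curv2.deg k C' (pb j F) 1 = -1 := by
  haveI := CurvLib.isNoetherian k (X := S)
  haveI := CurvLib.isNoetherian k (X := C)
  haveI : IsClosedImmersion y := by
    haveI : IsClosedImmersion (y ≫ (C' ↘ Spec (CommRingCat.of k))) := by rw [hy]; infer_instance
    exact IsClosedImmersion.of_comp y (C' ↘ Spec (CommRingCat.of k))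
  haveI : Flat q := MorphismProperty.of_isPullback (P := @Flat) hpb inferInstance
  have hsq : IsPullback i (C ↘ Spec (CommRingCat.of k)) q y := by
    refine IsPullback.of_right ?_ h₂ hpb
    rw [h₁, hy]
    exact IsPullback.of_horiz_isIso ⟨by simp⟩
  haveI : IsClosedImmersion i := MorphismProperty.of_isPullback (P := @IsClosedImmersion) hsq.flip inferInstance
  have hker : y.ker.comap q = i.ker := by
    rw [← Scheme.IdealSheafData.ker_fst_of_isClosedImmersion y q, ← hsq.isoPullback_inv_fst,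
      Scheme.Hom.ker_comp_of_isIso]
  have hN := AlgEquivCurveLib.isEffCartier_pt (k := k) hd' y hy
  have hNi := IntMultLib.isInvertible_idealMod _ hN
  have hJ : BlowUp.IsEffCartierIdeal i.ker := hker ▸ BlowUpLib.isEffCartier_comap_of_flat q hN
  have hI := IntMultLib.isInvertible_idealMod _ hJ
  haveI := isIso_toComap_flat q y.ker
  let eF : ClSub.idealMod i.ker ≅ pb q (ClSub.idealMod y.ker) :=
    eqToIso (by rw [hker]) ≪≫ (asIso (toComap q y.ker)).symm
  have hig : i ≫ (S ↘ Spec (CommRingCat.of k)) = C ↘ Spec (CommRingCat.of k) := by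
    rw [← hp, reassoc_of% h₁]
  refine ⟨ClSub.idealMod i.ker, hI, fun T hT => ?_, ?_, fun j hj => ?_⟩
  · rw [pr_ideal _ (CurvLib.isCoh_of_isInvertible hI) hT, N_congr [T] (quotMod_ker_iso i).some,
      ← N_push (k := k) (g := i) hig (l := [T]) (by simpa using hT) (DevissLib.isCoh_structureModule C)
        ((topologicalKrullDim_subspace_le _ _).trans (by rw [hd]; simp))]
    change -N k [pb i T] (Coh.structureModule C) = _
    rw [← euler_sub_eq_N, Curv2.deg]
    simp
  · obtain ⟨e⟩ := trivial_spec_field (AmpleDevLib.isInvertible_pb y hNi)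
    let e' : pb i (ClSub.idealMod i.ker) ≅ Coh.structureModule C :=
      (Scheme.Modules.pullback i).mapIso eF ≪≫ (Scheme.Modules.pullbackComp i q).app _ ≪≫
        (Scheme.Modules.pullbackCongr h₂).app _ ≪≫
        ((Scheme.Modules.pullbackComp (C ↘ Spec (CommRingCat.of k)) y).app _).symm ≪≫
        (Scheme.Modules.pullback (C ↘ Spec (CommRingCat.of k))).mapIso e ≪≫ KFlatLib.pullUnitIso _
    rw [CurvLib.deg_congr (k := k) e' 1]
    simp [Curv2.deg]
  · let e' : pb j (ClSub.idealMod i.ker) ≅ ClSub.idealMod y.ker :=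
      (Scheme.Modules.pullback j).mapIso eF ≪≫ (Scheme.Modules.pullbackComp j q).app _ ≪≫
        (Scheme.Modules.pullbackCongr hj).app _ ≪≫ (Scheme.Modules.pullbackId C').app _
    rw [CurvLib.deg_congr (k := k) e' 1]
    haveI := FibVALib.geometricallyIntegral_of_geometricallyConnected (C' ↘ Spec (CommRingCat.of k))
    haveI : IsIntegral C' := GeometricallyIntegral.isIntegral_of_subsingleton (C' ↘ Spec (CommRingCat.of k))
    obtain ⟨P, hP⟩ : ∃ P : C', P = y (IsLocalRing.closedPoint k) := ⟨_, rfl⟩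
    have hPc : IsClosed ({P} : Set C') := hP ▸ GenusZeroLib.isClosed_rational y hy _
    haveI : IsDiscreteValuationRing (C'.presheaf.stalk P) := HurwitzLib.dvr_stalk_closed (k := k) hd' hPc
    obtain ⟨I, ⟨eI⟩, hI', hdI⟩ := GenusZeroLib.exists_idealMod_iso (k := k) hPc hd'
    rw [show y.ker = GenusZeroLib.ptIdeal hPc by subst hP; exact SecDivLib.ker_rational y hy,
      ← CurvLib.deg_congr (k := k) eI 1, hdI]
    subst hP
    rw [GenusZeroLib.finrank_residueField_rational y hy]
    rfl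

omit [GeometricallyConnected (C' ↘ Spec (CommRingCat.of k))] in
/-- A product of two curves over an algebraically closed field is an integral surface. -/
theorem integral_prod [IsAlgClosed k] [IsIntegral C] [IsIntegral C'] (hd : topologicalKrullDim C = 1)
    (hd' : topologicalKrullDim C' = 1) :
    IsIntegral (pullback (C ↘ Spec (CommRingCat.of k)) (C' ↘ Spec (CommRingCat.of k))) ∧
      topologicalKrullDim ↥(pullback (C ↘ Spec (CommRingCat.of k)) (C' ↘ Spec (CommRingCat.of k))) = ((2 : ℕ) : WithBot ℕ∞) := by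
  haveI := CurveBCLib.geometricallyIntegral_of_sepClosed (k := k) (X := C)
  haveI := CurveBCLib.geometricallyIntegral_of_sepClosed (k := k) (X := C')
  refine ⟨?_, ?_⟩
  · haveI := CurvLib.isNoetherian k (X := C)
    infer_instance
  · haveI : LocallyOfFiniteType (Over.mk (C ↘ Spec (CommRingCat.of k))).hom := inferInstanceAs (LocallyOfFiniteType (C ↘ _))
    haveI : LocallyOfFiniteType (Over.mk (C' ↘ Spec (CommRingCat.of k))).hom := inferInstanceAs (LocallyOfFiniteType (C' ↘ _))
    haveI : GeometricallyIntegral (Over.mk (C ↘ Spec (CommRingCat.of k))).hom := inferInstanceAs (GeometricallyIntegral (C ↘ _))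
    haveI : GeometricallyIntegral (Over.mk (C' ↘ Spec (CommRingCat.of k))).hom := inferInstanceAs (GeometricallyIntegral (C' ↘ _))
    have h := AVAmpleLib.dim_tensor (Over.mk (C ↘ Spec (CommRingCat.of k))) (Over.mk (C' ↘ Spec (CommRingCat.of k)))
    refine h.trans ?_
    change topologicalKrullDim C + topologicalKrullDim C' = _
    rw [hd, hd']
    rfl

omit [IsProper (C ↘ Spec (CommRingCat.of k))] [IsProper (C' ↘ Spec (CommRingCat.of k))]
  [Smooth (C ↘ Spec (CommRingCat.of k))] [Smooth (C' ↘ Spec (CommRingCat.of k))]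
  [GeometricallyConnected (C' ↘ Spec (CommRingCat.of k))] in
/-- The quadratic form of the defect. -/
theorem defect [IsIntegral S] (hS : topologicalKrullDim S = ((2 : ℕ) : WithBot ℕ∞))
    {F₁ F₂ L L' : S.Modules} (h1 : PicF.IsInvertible F₁) (h2 : PicF.IsInvertible F₂) (hL : PicF.IsInvertible L)
    (hL' : PicF.IsInvertible L') (h11 : pr k F₁ F₁ = 0) (h12 : pr k F₁ F₂ = 1) (h22 : pr k F₂ F₂ = 0)
    {a b a' b' : ℤ} (ha : pr k F₁ L = -a) (hb : pr k F₂ L = -b) (ha' : pr k F₁ L' = -a') (hb' : pr k F₂ L' = -b') :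
    pr k L L ≤ 2 * a * b ∧
      (pr k L L' - a * b' - b * a') ^ 2 ≤ (2 * a * b - pr k L L) * (2 * a' * b' - pr k L' L') := by
  have hle : topologicalKrullDim S ≤ (2 : ℕ) := hS.le
  have h21 : pr k F₂ F₁ = 1 := by rw [pr_comm, h12]
  have hH := HilbPolyLib.isInvertible_tensor h1 h2
  have hpos : 0 < pr k (CohB1.tensorMod F₁ F₂) (CohB1.tensorMod F₁ F₂) := by
    rw [pr_tensor hle h1 h2 hH, pr_comm F₁, pr_comm F₂, pr_tensor hle h1 h2 h1, pr_tensor hle h1 h2 h2, h11, h12, h21, h22]
    norm_num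
  have key : ∀ P : S.Modules, PicF.IsInvertible P → pr k P F₁ = 0 → pr k P F₂ = 0 → pr k P P ≤ 0 :=
    fun P hP e1 e2 => neg_semidef hS hH hP hpos (by rw [pr_comm, pr_tensor hle h1 h2 hP, pr_comm F₁, pr_comm F₂, e1, e2]; rfl)
  have hD : ∀ (K : S.Modules) (a b : ℤ), PicF.IsInvertible K → pr k F₁ K = -a → pr k F₂ K = -b →
      ∃ D : S.Modules, PicF.IsInvertible D ∧ pr k D F₁ = 0 ∧ pr k D F₂ = 0 ∧
        ∀ Q : S.Modules, PicF.IsInvertible Q → pr k D Q = pr k K Q + b * pr k F₁ Q + a * pr k F₂ Q := by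
    intro K a b hK e1 e2
    obtain ⟨M, hM, hMe⟩ := exists_comb (k := k) hle h1 h2 b a
    refine ⟨CohB1.tensorMod K M, HilbPolyLib.isInvertible_tensor hK hM, ?_, ?_, fun Q hQ => ?_⟩
    · rw [pr_tensor hle hK hM h1, hMe _ h1, h11, h21, pr_comm K, e1]; ring
    · rw [pr_tensor hle hK hM h2, hMe _ h2, h12, h22, pr_comm K, e2]; ring
    · rw [pr_tensor hle hK hM hQ, hMe _ hQ]; ring
  obtain ⟨D, hDi, hD1, hD2, hDe⟩ := hD L a b hL ha hb
  obtain ⟨D', hDi', hD1', hD2', hDe'⟩ := hD L' a' b' hL' ha' hb'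
  have eDD : pr k D D = pr k L L - 2 * a * b := by
    rw [hDe D hDi, pr_comm F₁ D, pr_comm F₂ D, hD1, hD2, pr_comm L D, hDe L hL, ha, hb]; ring
  have eDD' : pr k D D' = pr k L L' - a * b' - b * a' := by
    rw [pr_comm D D', hDe' D hDi, pr_comm F₁ D, pr_comm F₂ D, hD1, hD2, pr_comm L' D, hDe L' hL', ha', hb']; ring
  have eD'D' : pr k D' D' = pr k L' L' - 2 * a' * b' := by
    rw [hDe' D' hDi', pr_comm F₁ D', pr_comm F₂ D', hD1', hD2', pr_comm L' D', hDe' L' hL', ha', hb']; ring
  have hneg : pr k D D ≤ 0 := key D hDi hD1 hD2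
  refine ⟨by linarith, ?_⟩
  have form : ∀ s t : ℤ, s ^ 2 * pr k D D + 2 * s * t * pr k D D' + t ^ 2 * pr k D' D' ≤ 0 := by
    intro s t
    obtain ⟨X, hX, hXe⟩ := exists_comb (k := k) hle hDi hDi' s t
    have h := key X hX (by rw [hXe _ h1, hD1, hD1']; ring) (by rw [hXe _ h2, hD2, hD2']; ring)
    rw [hXe X hX, pr_comm D X, pr_comm D' X, hXe D hDi, hXe D' hDi', pr_comm D' D] at h
    linarith
  rw [← eDD', show 2 * a * b - pr k L L = -pr k D D by linarith, show 2 * a' * b' - pr k L' L' = -pr k D' D' by linarith]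
  rcases hneg.lt_or_eq with h | h
  · have := form (pr k D D') (-pr k D D)
    nlinarith
  · have := form (pr k D D' * (|pr k D' D'| + 1)) 1
    rw [h] at this ⊢
    have h3 : pr k D D' = 0 := by
      by_contra h0
      have : 1 ≤ pr k D D' * pr k D D' := by
        rcases lt_or_gt_of_ne h0 with h' | h' <;> nlinarith
      nlinarith [neg_abs_le (pr k D' D'), abs_nonneg (pr k D' D')]
    rw [h3]; simp

end SurfNumLib
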