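import Groth.Agent.SurfNumLib.Proper
import Groth.Agent.RegUFDLib.Basic
import Groth.Agent.WeilExtLib.Smooth
import Groth.Agent.FibDimLib.Comps
import Groth.Agent.S1684

/-!
# Configurations of curves on a surface
-/

set_option autoImplicit false
set_option linter.style.haveILetI false
universe u

open CategoryTheory CategoryTheory.Limits AlgebraicGeometry TopologicalSpace Opposite
open HilbPolyLib DevissLib IntMultLib IntFunLib HodgeIdxLib
open KFlatLib (pb puSec)
open TwistLib (genSet)

noncomputable section

namespace SurfNumLib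

variable {k : Type u} [Field k] {X : Scheme.{u}} [X.Over (Spec (CommRingCat.of k))]
  [IsProper (X ↘ Spec (CommRingCat.of k))]

/-- A section has nonnegative degree on a curve where it does not vanish identically. -/
theorem nonneg_of_section_curve {P : X.Modules} (hP : PicF.IsInvertible P) (φ : Coh.structureModule X ⟶ P) {c : X}
    (hc : topologicalKrullDim (closure ({c} : Set X)) = ((1 : ℕ) : WithBot ℕ∞))
    (hcn : c ∉ CohB1.support (cokernel φ)) : 0 ≤ N k [P] (Fpt c) := by
  let σ := φ.app ⊤ (1 : Γ(X, ⊤))
  have hφσ : φ = QCohLib.unitHom P σ := eq_unitHom φ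
  have hcg : c ∈ genSet hP σ := IntMultLib.genAt_of_unitHom_surjective hP _ fun b => by
    rw [← hφσ]
    have hsub : Subsingleton ((St c).obj (cokernel φ)) := not_not.mp fun h => hcn h
    have hS : (ShortComplex.mk φ (cokernel.π φ) (cokernel.condition φ)).Exact := ShortComplex.exact_cokernel φ
    have hex := (ShortComplex.moduleCat_exact_iff _).1 (hS.map (DerSch.stalkFunctor X c))
    obtain ⟨a, ha⟩ := hex b (@Subsingleton.elim _ hsub _ _)
    exact ⟨a, ha⟩
  haveI := isIntegral_ptIdeal c
  let W := (ptIdeal c).subscheme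
  let g : W ⟶ X := (ptIdeal c).subschemeι
  letI : W.Over (Spec (CommRingCat.of k)) := ⟨g ≫ (X ↘ Spec (CommRingCat.of k))⟩
  haveI : IsProper (W ↘ Spec (CommRingCat.of k)) :=
    inferInstanceAs (IsProper (g ≫ (X ↘ Spec (CommRingCat.of k))))
  haveI := CurvLib.isNoetherian k (X := W)
  have hW : topologicalKrullDim W = 1 := by
    rw [← Nat.cast_one (R := WithBot ℕ∞), ← hc]
    exact (g.isEmbedding.toHomeomorph.trans
      (Homeomorph.setCongr (range_ptIdeal c))).isHomeomorph.topologicalKrullDim_eq
  have hrfl : g ≫ (X ↘ Spec (CommRingCat.of k)) = W ↘ Spec (CommRingCat.of k) := rfl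
  have hPW := AmpleDevLib.isInvertible_pb g hP
  let τ : Γ(pb g P, ⊤) := puSec g σ
  have hτ : genericPoint W ∈ genSet hPW τ := by
    rw [AmpleDevLib.genSet_puSec g hP σ]
    change g (genericPoint W) ∈ genSet hP σ
    have : g (genericPoint W) = c := by
      refine IsGenericPoint.eq ?_ (isGenericPoint_closure (x := c))
      have := (genericPoint_spec W).image g.continuous
      rwa [Set.image_univ, range_ptIdeal, closure_closure] at this
    rw [this]; exact hcg
  let ψ := QCohLib.unitHom (pb g P) τ
  have hψ : ψ ≠ 0 := fun h0 => by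
    have hτ0 : τ = 0 := by
      have h2 := congr_arg (fun χ : Coh.structureModule W ⟶ pb g P => χ.app ⊤ (1 : Γ(W, ⊤))) h0
      change (QCohLib.unitHom (pb g P) τ).app ⊤ (1 : Γ(W, ⊤)) = 0 at h2
      rwa [QCohLib.unitHom_app, one_smul,
        show (pb g P).presheaf.map (homOfLE (le_top : ⊤ ≤ (⊤ : W.Opens))).op τ = τ from QCohLib.toSections_top _ τ] at h2
    have hb : AmpleLib.GenAt (pb g P) τ (show genericPoint W ∈ (⊤ : W.Opens) from trivial) := hτ
    rw [hτ0] at hb
    refine one_ne_zero (hb.1 (a₁ := (1 : W.presheaf.stalk (genericPoint W))) (a₂ := 0) ?_)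
    simp
  have hle := CurvLib.euler_le (k := k) CurvLib.isInvertible_structureModule hPW hW hψ
  have h1 := euler_sub_eq_N (k := k) (pb g P)
  have h2 := N_push (k := k) hrfl (l := [P]) (by simpa using hP) (DevissLib.isCoh_structureModule W)
    ((topologicalKrullDim_subspace_le _ _).trans (by rw [hW]; simp))
  change N k [pb g P] (Coh.structureModule W) = N k [P] (Fpt c) at h2
  omega

variable [IsIntegral X]

variable (k) in
include k in
/-- An integral curve on a regular surface is an effective Cartier divisor. -/
theorem isEffCartier_curve (hX : topologicalKrullDim X = ((2 : ℕ) : WithBot ℕ∞))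
    (hreg : ∀ x : X, IsRegularLocalRing (X.presheaf.stalk x)) (J : X.IdealSheafData) [IsIntegral J.subscheme]
    (hd : topologicalKrullDim (J.support : Set X) = 1) : BlowUp.IsEffCartierIdeal J := by
  haveI := CurvLib.isNoetherian k (X := X)
  refine Groth.Agent.S1684.result X J ?_ fun x _ => by
    haveI := hreg x
    exact ⟨CommAlgDim.isDomain_of_isRegularLocalRing _, RegUFDLib.uniqueFactorizationMonoid _⟩
  let z := J.subschemeι (genericPoint ↥J.subscheme)
  have hz : closure ({z} : Set X) = (J.support : Set X) := by
    have h := (genericPoint_spec ↥J.subscheme).image J.subschemeι.continuous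
    rw [Set.image_univ, J.range_subschemeι] at h
    rw [h.def]
    exact J.support.isClosed.closure_eq
  have h := FibDimLib.localDim_eq_closure_add_stalk (X ↘ Spec (CommRingCat.of k)) z
  rw [FibDimLib.localDim_of_irreducible (X ↘ Spec (CommRingCat.of k)) z, hX, hz, hd] at h
  change ringKrullDim (X.presheaf.stalk z) = 1
  revert h
  generalize ringKrullDim (X.presheaf.stalk z) = b
  intro h
  induction b using WithBot.recBotCoe with
  | bot => simp at h
  | coe b =>
    have h' : ((2 : ℕ) : ℕ∞) = 1 + b := WithBot.coe_injective h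
    induction b using ENat.recTopCoe with
    | top =>
      rw [add_top] at h'
      exact absurd h' (ENat.natCast_ne_top 2)
    | coe n =>
      have : (2 : ℕ) = 1 + n := by exact_mod_cast h'
      have : n = 1 := by omega
      subst this
      rfl

/-- An effective divisor has nonnegative degree on a curve which is not one of its components. -/
theorem N_effCartier_nonpos {J : X.IdealSheafData} (hJ : BlowUp.IsEffCartierIdeal J) (C : X.IdealSheafData)
    [IsIntegral C.subscheme] (hd : topologicalKrullDim (C.support : Set X) = 1)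
    (hnot : ¬ (C.support : Set X) ⊆ (J.support : Set X)) : N k [ClSub.idealMod J] (ClSub.quotMod C) ≤ 0 := by
  haveI := CurvLib.isNoetherian k (X := X)
  have hI := IntMultLib.isInvertible_idealMod J hJ
  have hD := MiscFlat6.dual_isInvertible hI
  obtain ⟨e⟩ := MiscFlat6.nonempty_dualIso hI
  obtain ⟨φ, hφ, hs⟩ := exists_section_inverse hI hD (swapIso _ _ ≪≫ e) (effCartier_ne_bot hJ)
  have hsupp : topologicalKrullDim (CohB1.support (ClSub.quotMod C)) ≤ (([MiscFlat6.dual (ClSub.idealMod J)].length : ℕ) : WithBot ℕ∞) := by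
    rw [support_quotMod_eq, hd]; simp
  rw [N_inv_head (l := []) hD hI (swapIso _ _ ≪≫ e) (by simp) (CurvLib.isCoh_quotMod C) (by simpa using hsupp)]
  refine neg_nonpos.mpr (N_nonneg (l := [MiscFlat6.dual (ClSub.idealMod J)]) (by simpa using hD)
    (CurvLib.isCoh_quotMod C) hsupp fun ξ hξ hξd => ?_)
  refine nonneg_of_section_curve hD φ (by simpa using hξd) ?_
  rw [hs]
  intro hξJ
  refine hnot ?_
  let z := C.subschemeι (genericPoint ↥C.subscheme)
  have hz : closure ({z} : Set X) = (C.support : Set X) := by
    have h := (genericPoint_spec ↥C.subscheme).image C.subschemeι.continuous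
    rw [Set.image_univ, C.range_subschemeι] at h
    rw [h.def]
    exact C.support.isClosed.closure_eq
  rw [support_quotMod_eq, ← hz] at hξ
  have hsub : closure ({ξ} : Set X) ⊆ closure {z} := closure_minimal (Set.singleton_subset_iff.mpr hξ) isClosed_closure
  have hzξ : z ∈ closure ({ξ} : Set X) := by
    by_contra hn
    have h := dim_lt_of_notMem isClosed_closure hsub hn (Y := closure {z}) subset_rfl (d := 1)
      (by rw [hz, hd]; decide)
    rw [hξd] at h
    exact lt_irrefl _ h
  rw [← hz]
  exact closure_minimal (Set.singleton_subset_iff.mpr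
    (closure_minimal (Set.singleton_subset_iff.mpr hξJ) J.support.isClosed hzξ)) J.support.isClosed

theorem pr_curves_nonneg {J C : X.IdealSheafData} (hJ : BlowUp.IsEffCartierIdeal J) (hC : BlowUp.IsEffCartierIdeal C)
    [IsIntegral C.subscheme] (hd : topologicalKrullDim (C.support : Set X) = 1)
    (hnot : ¬ (C.support : Set X) ⊆ (J.support : Set X)) : 0 ≤ pr k (ClSub.idealMod J) (ClSub.idealMod C) := by
  rw [pr_comm, pr_ideal C (CurvLib.isCoh_of_isInvertible (IntMultLib.isInvertible_idealMod C hC))
    (IntMultLib.isInvertible_idealMod J hJ)]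
  linarith [N_effCartier_nonpos (k := k) hJ C hd hnot]

/-- Distinct integral curves are not contained in one another. -/
theorem not_subset_of_ne {J C : X.IdealSheafData} [IsIntegral J.subscheme] [IsIntegral C.subscheme]
    (hJd : topologicalKrullDim (J.support : Set X) = 1) (hCd : topologicalKrullDim (C.support : Set X) = 1)
    (hne : J ≠ C) : ¬ (C.support : Set X) ⊆ (J.support : Set X) := by
  intro hsub
  refine hne ?_
  have hgen : ∀ (I : X.IdealSheafData) [IsIntegral I.subscheme],
      closure ({I.subschemeι (genericPoint ↥I.subscheme)} : Set X) = (I.support : Set X) := fun I _ => by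
    have h := (genericPoint_spec ↥I.subscheme).image I.subschemeι.continuous
    rw [Set.image_univ, I.range_subschemeι] at h
    rw [h.def]
    exact I.support.isClosed.closure_eq
  have heq : (C.support : Set X) = (J.support : Set X) := by
    refine hsub.antisymm ?_
    rw [← hgen J]
    refine closure_minimal (Set.singleton_subset_iff.mpr ?_) C.support.isClosed
    by_contra hn
    have h := dim_lt_of_notMem C.support.isClosed (hsub.trans (hgen J).ge) hn (Y := (J.support : Set X))
      (hgen J).le (d := 1) (by rw [hJd]; decide)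
    rw [hCd] at h
    exact lt_irrefl _ h
  rw [AlgSpRegLib.eq_vanishingIdeal_support J, AlgSpRegLib.eq_vanishingIdeal_support C]
  exact congrArg _ (Closeds.ext heq.symm)

theorem parts_nonneg {r : ℕ} (G : Fin r → Fin r → ℤ) (hG : ∀ i j, i ≠ j → 0 ≤ G i j) (s g : Fin r → ℤ)
    (hg : ∀ j, 0 ≤ g j) (h : ∀ j, ∑ i, s i * G i j = g j) :
    0 ≤ ∑ i, ∑ j, max (s i) 0 * max (s j) 0 * G i j := by
  rw [Finset.sum_comm]
  refine Finset.sum_nonneg fun j _ => ?_
  have e : ∑ i, max (s i) 0 * max (s j) 0 * G i j = max (s j) 0 * g j + ∑ i, max (s j) 0 * (max (-s i) 0 * G i j) := by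
    rw [← h j, Finset.mul_sum, ← Finset.sum_add_distrib]
    refine Finset.sum_congr rfl fun i _ => ?_
    rcases le_total 0 (s i) with hi | hi
    · rw [max_eq_left hi, max_eq_right (neg_nonpos.mpr hi)]; ring
    · rw [max_eq_right hi, max_eq_left (neg_nonneg.mpr hi)]; ring
  rw [e]
  refine add_nonneg (mul_nonneg (le_max_right _ _) (hg j)) (Finset.sum_nonneg fun i _ => ?_)
  rcases eq_or_ne i j with rfl | hij
  · rcases le_total 0 (s i) with hi | hi
    · rw [max_eq_right (neg_nonpos.mpr hi)]; simp
    · rw [max_eq_right hi]; simp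
  · exact mul_nonneg (le_max_right _ _) (mul_nonneg (le_max_right _ _) (hG i j hij))

end SurfNumLib
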