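import Groth.Agent.SurfNumLib.RR
import Groth.Agent.SurfNumLib.Config
import Groth.Agent.SurfNumLib.CastSev
import Groth.Agent.PushLinLib.HH
import Groth.Agent.RRVanLib.GG
import Groth.Agent.AmpleThLib.ProjA

/-!
# Consequences of Riemann–Roch on surfaces
-/

set_option autoImplicit false
set_option linter.style.haveILetI false
universe u

open CategoryTheory CategoryTheory.Limits AlgebraicGeometry TopologicalSpace Opposite
open HilbPolyLib DevissLib IntMultLib IntFunLib HodgeIdxLib

noncomputable section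

namespace SurfNumLib

variable {k : Type u} [Field k] {X : Scheme.{u}} [X.Over (Spec (CommRingCat.of k))]
  [IsProper (X ↘ Spec (CommRingCat.of k))]

variable (k) in
include k in
/-- An ample module gives an embedding in projective space. -/
theorem exists_embedding {A : X.Modules} (hA : CohB1.IsAmple A) :
    ∃ (n : ℕ) (ι : X ⟶ CohB1.ProjSpace n k), IsClosedImmersion ι ∧
      ι ≫ CohB1.ProjSpace.toSpec n k = X ↘ Spec (CommRingCat.of k) := by
  obtain ⟨m, r, hr, h⟩ := AmpleThLib.exists_closedImmersion (X ↘ Spec (CommRingCat.of k)) hA.1 hA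
  exact ⟨m, r, hr, h⟩

theorem hh_les {S : ShortComplex X.Modules} (hS : S.ShortExact) (h₁ : Coh.IsCoh S.X₁) (h₂ : Coh.IsCoh S.X₂)
    (h₃ : Coh.IsCoh S.X₃) :
    hh k S.X₁ 1 + hh k S.X₂ 0 ≤ hh k S.X₁ 0 + hh k S.X₃ 0 + hh k S.X₂ 1 := by
  haveI := CurvLib.finite_HH (k := k) h₁ 0
  haveI := CurvLib.finite_HH (k := k) h₁ 1
  haveI := CurvLib.finite_HH (k := k) h₂ 0
  haveI := CurvLib.finite_HH (k := k) h₂ 1
  haveI := CurvLib.finite_HH (k := k) h₃ 0
  have a1 := LinearMap.finrank_range_add_finrank_ker (CurvLib.hMap (k := k) S.g 0)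
  have a2 := LinearMap.finrank_range_add_finrank_ker (CurvLib.hMap (k := k) S.f (0 + 1))
  have a3 := LinearMap.finrank_range_add_finrank_ker (CurvLib.hDel (k := k) hS 0)
  have b1 := CurvLib.exact₂ (k := k) hS 0
  have b2 := CurvLib.exact₃ (k := k) hS 0
  have b3 := CurvLib.exact₁ (k := k) hS 0
  rw [← b1] at a1
  rw [← b3] at a2
  rw [← b2] at a3
  have c1 := LinearMap.finrank_range_le (CurvLib.hMap (k := k) S.f 0)
  have c2 := Submodule.finrank_le (LinearMap.range (CurvLib.hMap (k := k) S.f (0 + 1)))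
  unfold hh
  have i1 : Module.finrank k (Coh.HH X S.X₁ (0 + 1)) = Module.finrank k (Coh.HH X S.X₁ 1) := rfl
  have i2 : Module.finrank k (Coh.HH X S.X₂ (0 + 1)) = Module.finrank k (Coh.HH X S.X₂ 1) := rfl
  omega

theorem hh_quot (J : X.IdealSheafData) [J.subscheme.Over (Spec (CommRingCat.of k))]
    (h : J.subschemeι ≫ (X ↘ Spec (CommRingCat.of k)) = J.subscheme ↘ Spec (CommRingCat.of k)) (p : ℕ) :
    hh k (ClSub.quotMod J) p = hh k (Coh.structureModule J.subscheme) p := by
  haveI : Coh.IsQCoh (Coh.structureModule J.subscheme) := QCohLib.isQCoh_unit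
  exact ((PushLinLib.euler_push k J.subschemeι h _).1 p).symm

/-- The functions on an integral closed subscheme over an algebraically closed field are constant. -/
theorem h0_quot [IsAlgClosed k] (J : X.IdealSheafData) [IsIntegral J.subscheme] : hh k (ClSub.quotMod J) 0 = 1 := by
  letI : J.subscheme.Over (Spec (CommRingCat.of k)) := ⟨J.subschemeι ≫ (X ↘ Spec (CommRingCat.of k))⟩
  haveI : IsProper (J.subscheme ↘ Spec (CommRingCat.of k)) :=
    inferInstanceAs (IsProper (J.subschemeι ≫ (X ↘ Spec (CommRingCat.of k))))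
  rw [hh_quot J rfl]
  exact RRVanLib.finrank_h0_structure

variable (k) in
theorem h0_structure [IsAlgClosed k] [IsIntegral X] : hh k (Coh.structureModule X) 0 = 1 :=
  RRVanLib.finrank_h0_structure

theorem ne_top_of_dim {J : X.IdealSheafData} (hd : topologicalKrullDim (J.support : Set X) = 1) : J ≠ ⊤ := fun h => by
  rw [h, Scheme.IdealSheafData.support_top] at hd
  haveI : IsEmpty (IrreducibleCloseds ↥((⊥ : Closeds X) : Set X)) :=
    ⟨fun c => by obtain ⟨x, -⟩ := c.isIrreducible.nonempty; exact x.2⟩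
  have h2 : topologicalKrullDim (↥((⊥ : Closeds X) : Set X)) = ⊥ := Order.krullDim_eq_bot
  rw [h2] at hd
  simp at hd

variable [IsIntegral X]

/-- The ideal of an effective divisor has no sections. -/
theorem h0_ideal_zero (hX : topologicalKrullDim X = ((2 : ℕ) : WithBot ℕ∞)) {J : X.IdealSheafData}
    (hJ : BlowUp.IsEffCartierIdeal J) (hne : J ≠ ⊤) {A : X.Modules} (hA : CohB1.IsAmple A) :
    hh k (ClSub.idealMod J) 0 = 0 := by
  by_contra h
  have hI := IntMultLib.isInvertible_idealMod J hJ
  haveI := CurvLib.finite_HH (k := k) (CurvLib.isCoh_of_isInvertible hI) 0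
  obtain ⟨φ, hφ⟩ := CurvLib.exists_hom_ne_zero (L := ClSub.idealMod J)
    (Module.nontrivial_of_finrank_pos (R := k) (Nat.pos_of_ne_zero h))
  have h1 := nonneg_of_section (k := k) hX hI hA hφ
  have h2 := pr_effCartier_pos (k := k) hX hJ hne hA
  unfold pr at h2
  omega

/-- A class with a section and degree zero against an ample module is trivial. -/
theorem trivial_of_section (hX : topologicalKrullDim X = ((2 : ℕ) : WithBot ℕ∞)) {P A : X.Modules}
    (hP : PicF.IsInvertible P) (hA : CohB1.IsAmple A) (h0 : hh k P 0 ≠ 0) (hdeg : pr k P A = 0) :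
    Nonempty (P ≅ Coh.structureModule X) := by
  haveI := CurvLib.finite_HH (k := k) (CurvLib.isCoh_of_isInvertible hP) 0
  obtain ⟨φ, hφ⟩ := CurvLib.exists_hom_ne_zero (L := P)
    (Module.nontrivial_of_finrank_pos (R := k) (Nat.pos_of_ne_zero h0))
  have he : ¬ (CohB1.support (cokernel φ)).Nonempty := fun hne => (pos_of_section (k := k) hX hP hA hφ hne).ne' hdeg
  haveI : Mono φ := CurvLib.mono_of_ne_zero CurvLib.isInvertible_structureModule hP hφ
  have hz := DevissLib.isZero_of_support_empty (Set.not_nonempty_iff_eq_empty.mp he)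
  haveI : Epi φ := Preadditive.epi_of_cancel_zero _ fun g hg => by
    rw [← cokernel.π_desc _ g hg, hz.eq_of_src (cokernel.desc _ g hg) 0, comp_zero]
  haveI := isIso_of_mono_of_epi φ
  exact ⟨(asIso φ).symm⟩

end SurfNumLib
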