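import Groth.Agent.SurfNumLib.Curve
import Groth.Agent.SurfNumLib.IdealMul

/-!
# The index theorem on integral proper surfaces
-/

set_option autoImplicit false
set_option linter.style.haveILetI false
universe u

open CategoryTheory CategoryTheory.Limits AlgebraicGeometry TopologicalSpace Opposite
open HilbPolyLib DevissLib IntMultLib IntFunLib HodgeIdxLib
open KFlatLib (pb)

noncomputable section

namespace SurfNumLib

variable {k : Type u} [Field k] {X : Scheme.{u}} [X.Over (Spec (CommRingCat.of k))]
  [IsProper (X ↘ Spec (CommRingCat.of k))] [IsIntegral X]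
  (hX : topologicalKrullDim X = ((2 : ℕ) : WithBot ℕ∞))

include hX

theorem dim_generic : topologicalKrullDim (closure ({genericPoint X} : Set X)) = ((2 : ℕ) : WithBot ℕ∞) := by
  rw [dim_closure_generic, hX]

theorem pr_eq_Fpt {P Q : X.Modules} (hP : PicF.IsInvertible P) (hQ : PicF.IsInvertible Q) :
    pr k P Q = N k [P, Q] (Fpt (genericPoint X)) :=
  N_structure (l := [P, Q]) (by simp [hP, hQ]) (by rw [hX]; simp)

/-- Numerical triviality on curves for classes orthogonal to a positive one. -/
theorem curve_zero {H L : X.Modules} (hH : PicF.IsInvertible H) (hL : PicF.IsInvertible L)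
    (hpos : 0 < pr k H H) (horth : pr k L H = 0) (hsq : 0 ≤ pr k L L) {c : X}
    (hc : topologicalKrullDim (closure ({c} : Set X)) = ((1 : ℕ) : WithBot ℕ∞)) : N k [L] (Fpt c) = 0 :=
  N_eq_zero_of_index (dim_generic hX) (specializes_iff_mem_closure.mp ((genericPoint_spec X).specializes trivial))
    hc hH hL (by rw [← pr_eq_Fpt hX hH hH]; exact hpos) (by rw [← pr_eq_Fpt hX hL hH]; exact horth)
    (by rw [← pr_eq_Fpt hX hL hL]; exact hsq)

variable (k) in
include k in
theorem exists_curve : ∃ c : X, topologicalKrullDim (closure ({c} : Set X)) = ((1 : ℕ) : WithBot ℕ∞) := by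
  haveI := CurvLib.isNoetherian k (X := X)
  obtain ⟨e, -, he⟩ := IsClosed.exists_closed_singleton (isClosed_univ (X := X)) ⟨genericPoint X, trivial⟩
  have hne : ({e} : Set X) ≠ Set.univ := fun h => by
    have hg : genericPoint X ∈ ({e} : Set X) := by rw [h]; trivial
    have h0 : topologicalKrullDim (closure ({genericPoint X} : Set X)) ≤ 0 := by
      rw [Set.mem_singleton_iff.mp hg, he.closure_eq]
      exact topologicalKrullDim_zero_of_discreteTopology _
    rw [dim_generic hX] at h0
    have : (2 : ℕ) ≤ 0 := by exact_mod_cast h0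
    omega
  obtain ⟨y, -, -, hy⟩ := AVAmpleLib.exists_curve_not_mem (X ↘ Spec (CommRingCat.of k)) e he
    (IsClosed.closure_eq he ▸ isClosed_closure : IsClosed ({e} : Set X)) rfl hne
  exact ⟨y, by rw [hy, Nat.cast_one]⟩

/-- The orthogonal of a class of positive square is negative semidefinite. -/
theorem neg_semidef {H L : X.Modules} (hH : PicF.IsInvertible H) (hL : PicF.IsInvertible L)
    (hpos : 0 < pr k H H) (horth : pr k L H = 0) : pr k L L ≤ 0 := by
  haveI := CurvLib.isNoetherian k (X := X)
  by_contra hsq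
  push Not at hsq
  obtain ⟨c, hc⟩ := exists_curve k hX
  have hcne : genericPoint X ∉ closure ({c} : Set X) := fun h => by
    have hle := dim_mono (isClosed_closure.closure_subset_iff.mpr (Set.singleton_subset_iff.mpr h))
    rw [dim_generic hX, hc] at hle
    have : (2 : ℕ) ≤ 1 := by exact_mod_cast hle
    omega
  obtain ⟨Z, iZ, hZp, hZi, h, A, J, hh, hA, hZd, hgen, -, -, -, -⟩ := exists_surface (k := k) (dim_generic hX)
    (specializes_iff_mem_closure.mp ((genericPoint_spec X).specializes trivial)) hcne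
  haveI := CurvLib.isNoetherian k (X := Z)
  haveI : IsProper h := isProper_g hh
  have hOc := FormalCohLib.isCoh_push_proper h (DevissLib.isCoh_structureModule Z)
  obtain ⟨m, hm, hmult⟩ := exists_mult (k := k) hOc (ξ := genericPoint X)
    (by rw [(genericPoint_spec X).def]; exact Set.subset_univ _)
    (hgen ▸ mem_support_push_unit h (genericPoint Z)) (dim_generic hX)
  have hpb : ∀ {P Q : X.Modules}, PicF.IsInvertible P → PicF.IsInvertible Q →
      pr k (pb h P) (pb h Q) = m * pr k P Q := by
    intro P Q hP hQ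
    rw [pr_eq_Fpt hX hP hQ, ← hmult [P, Q] (by simp [hP, hQ]) rfl, ← pr_mult (l := [P, Q]) (by simp [hP, hQ]) hh hZd.le]
    rfl
  have h0 := index (k := k) hZd hA (AmpleDevLib.isInvertible_pb h hH) (AmpleDevLib.isInvertible_pb h hL)
    (by rw [hpb hH hH]; exact mul_pos hm hpos) (by rw [hpb hL hH, horth, mul_zero])
    (by rw [hpb hL hL]; exact (mul_pos hm hsq).le) (AmpleDevLib.isInvertible_pb h hL)
  rw [hpb hL hL] at h0
  exact (mul_pos hm hsq).ne' h0

/-- `(H·H)(L·L) ≤ (L·H)²` when `H·H > 0`. -/
theorem mul_le_sq_proper {H L : X.Modules} (hH : PicF.IsInvertible H) (hL : PicF.IsInvertible L)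
    (hpos : 0 < pr k H H) : pr k H H * pr k L L ≤ pr k L H ^ 2 := by
  obtain ⟨M, hM, hMe⟩ := exists_comb (k := k) hX.le hL hH (pr k H H) (-pr k L H)
  have hMH : pr k M H = 0 := by rw [hMe H hH]; ring
  have h := neg_semidef hX hH hM hpos hMH
  rw [hMe M hM, pr_comm L M, pr_comm H M, hMH, hMe L hL, pr_comm H L] at h
  nlinarith

theorem curve_ne_zero_of_effCartier {J : X.IdealSheafData} (hJ : BlowUp.IsEffCartierIdeal J) (hne : J ≠ ⊤)
    (h : ∀ c : X, topologicalKrullDim (closure ({c} : Set X)) = ((1 : ℕ) : WithBot ℕ∞) →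
      N k [ClSub.idealMod J] (Fpt c) = 0) : False := by
  haveI := CurvLib.isNoetherian k (X := X)
  have hI := IntMultLib.isInvertible_idealMod J hJ
  have hD := MiscFlat6.dual_isInvertible hI
  obtain ⟨e⟩ := MiscFlat6.nonempty_dualIso hI
  obtain ⟨φ, hφ, hs⟩ := exists_section_inverse hI hD (swapIso _ _ ≪≫ e) (effCartier_ne_bot hJ)
  have hne' : (CohB1.support (cokernel φ)).Nonempty := by
    rw [hs]
    by_contra h0
    refine hne ((Scheme.IdealSheafData.support_eq_bot_iff (I := J)).mp (SetLike.ext fun x => iff_of_false ?_ ?_))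
    · exact fun hx => h0 ⟨x, hx⟩
    · exact id
  obtain ⟨y, hy, hpos⟩ := exists_curve_pos (k := k) hD hφ hne'
  rw [N_inv_head (l := []) hI hD e (by simp) (coh_Fpt k y) (by rw [supp_Fpt k, hy]; simp), h y hy] at hpos
  simp at hpos

end SurfNumLib
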