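import Groth.Agent.SurfNumLib.RRApps
import Groth.Agent.SurfNumLib.Proper
import Groth.Agent.GenusZeroLib.Mult
import Groth.Agent.SteinLib.Conn

/-!
# Surfaces with trivial canonical module; connectedness from constant functions
-/

set_option autoImplicit false
set_option linter.style.haveILetI false
universe u

open CategoryTheory CategoryTheory.Limits AlgebraicGeometry TopologicalSpace Opposite
open HilbPolyLib DevissLib IntMultLib IntFunLib HodgeIdxLib

noncomputable section

namespace SurfNumLib

variable {k : Type u} [Field k] {X : Scheme.{u}} [X.Over (Spec (CommRingCat.of k))]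

omit [X.Over (Spec (CommRingCat.of k))] in
theorem nonempty_inverse_unique {L L' : X.Modules} (e : CohB1.tensorMod L L' ≅ Coh.structureModule X)
    (h : Nonempty (L' ≅ Coh.structureModule X)) : Nonempty (L ≅ Coh.structureModule X) :=
  ⟨(swapIso _ _ ≪≫ unitLeft L).symm ≪≫ congrRight L h.some.symm ≪≫ e⟩

theorem connected_of_h0 [Nonempty X] (h0 : hh k (Coh.structureModule X) 0 = 1) : ConnectedSpace X := by
  refine SteinLib.connectedSpace_of_appTop (X ↘ Spec (CommRingCat.of k)) ?_
  let e := (Scheme.ΓSpecIso (CommRingCat.of k)).commRingCatIsoToRingEquiv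
  haveI : Nonempty (⊤ : X.Opens) := ⟨⟨Classical.arbitrary X, trivial⟩⟩
  haveI : Nontrivial Γ(X, ⊤) := Scheme.component_nontrivial X ⊤
  refine (ConcreteCategory.isIso_iff_bijective _).2 ⟨fun a b hab => ?_, fun c => ?_⟩
  · refine e.injective ((GenusZeroLib.ρ k (X := X)).injective ?_)
    show (X ↘ Spec (CommRingCat.of k)).appTop (e.symm (e a)) = (X ↘ Spec (CommRingCat.of k)).appTop (e.symm (e b))
    rw [e.symm_apply_apply, e.symm_apply_apply]
    exact hab
  · letI := GenusZeroLib.kmod k (Coh.structureModule X)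
    have h : Module.finrank k Γ(Coh.structureModule X, ⊤) = 1 :=
      (GenusZeroLib.e0k k (Coh.structureModule X)).finrank_eq.symm.trans h0
    obtain ⟨r, hr⟩ := (finrank_eq_one_iff_of_nonzero' (K := k)
      (show Γ(Coh.structureModule X, ⊤) from (1 : Γ(X, ⊤))) (show (1 : Γ(X, ⊤)) ≠ 0 from one_ne_zero)).mp h
      (show Γ(Coh.structureModule X, ⊤) from c)
    exact ⟨(Scheme.ΓSpecIso (CommRingCat.of k)).inv r, (mul_one _).symm.trans hr⟩

variable [IsProper (X ↘ Spec (CommRingCat.of k))]

theorem k3_trivial [IsAlgClosed k] [IsIntegral X] [Smooth (X ↘ Spec (CommRingCat.of k))]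
    (hX : topologicalKrullDim X = ((2 : ℕ) : WithBot ℕ∞)) {H : X.Modules} (hH : CohB1.IsAmple H)
    (hK : ExtPow.IsExtPow 2 (Omega.sheaf (X ↘ Spec (CommRingCat.of k))) (Coh.structureModule X))
    (hq : hh k (Coh.structureModule X) 1 = 0) {L : X.Modules} (hL : PicF.IsInvertible L)
    (hnum : ∀ M : X.Modules, PicF.IsInvertible M → pr k L M = 0) :
    Nonempty (L ≅ Coh.structureModule X) := by
  haveI := CurvLib.isNoetherian k (X := X)
  haveI := smoothRel_of_dim (k := k) hX
  obtain ⟨n, ι, hι, hιc⟩ := exists_embedding k hH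
  have hO := CurvLib.isInvertible_structureModule (X := X)
  have hrr := riemann_roch hX ι hιc hK hL
  rw [hnum L hL, hnum _ hO] at hrr
  have h2O := hh_dual ι hιc hK hO (unitLeft (Coh.structureModule X)) 2 le_rfl
  rw [Nat.sub_self, hh_congr (k := k) (unitLeft (Coh.structureModule X)) 0, h0_structure k] at h2O
  rw [euler_eq_three hX.le, euler_eq_three hX.le, h0_structure k, hq, h2O] at hrr
  have hD := MiscFlat6.dual_isInvertible hL
  obtain ⟨e⟩ := MiscFlat6.nonempty_dualIso hL
  have h2L := hh_dual ι hιc hK hL e 2 le_rfl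
  rw [Nat.sub_self, hh_congr (k := k) (swapIso _ _ ≪≫ unitLeft (MiscFlat6.dual L)) 0] at h2L
  by_cases h0 : hh k L 0 = 0
  · have hne : hh k (MiscFlat6.dual L) 0 ≠ 0 := by omega
    exact nonempty_inverse_unique e
      (trivial_of_section hX hD hH hne (by rw [pr_inverse hX.le hL hD hH.1 e, hnum H hH.1, neg_zero]))
  · exact trivial_of_section hX hL hH h0 (hnum H hH.1)

end SurfNumLib
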