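import Groth.Agent.SurfNumLib.Basic
import Groth.Agent.S5668
import Groth.Agent.FLILib.Invertible
import Groth.Agent.CurveH0Lib.Smooth
import Groth.Agent.CurvOpenLib.Smooth
import Groth.Agent.FibDimLib.Comps
import Groth.Agent.CohCmpLib.OmegaRank

/-!
# Riemann–Roch on a smooth projective surface
-/

set_option autoImplicit false
set_option linter.style.haveILetI false
set_option backward.isDefEq.respectTransparency false
universe u

open CategoryTheory CategoryTheory.Limits AlgebraicGeometry TopologicalSpace Opposite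
open HilbPolyLib DevissLib IntMultLib IntFunLib HodgeIdxLib
open CohCmpLib (homMod)

noncomputable section

namespace SurfNumLib

variable {k : Type u} [Field k] {X : Scheme.{u}} [X.Over (Spec (CommRingCat.of k))]

theorem smoothRel_of_dim [IsIntegral X] [Smooth (X ↘ Spec (CommRingCat.of k))] {n : ℕ}
    (hX : topologicalKrullDim X = ((n : ℕ) : WithBot ℕ∞)) :
    SmoothOfRelativeDimension n (X ↘ Spec (CommRingCat.of k)) := by
  let f := X ↘ Spec (CommRingCat.of k)
  refine (CurvOpenLib.smoothOfRelativeDimension_iff_forall n f).mpr ⟨inferInstance, fun x => ?_⟩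
  have hopen : Topology.IsOpenEmbedding (f.fiberι (f x)) := by
    refine ⟨(f.fiberι (f x)).isEmbedding, ?_⟩
    rw [Scheme.Hom.range_fiberι, show f ⁻¹' {f x} = Set.univ from
      Set.eq_univ_of_forall fun y => Subsingleton.elim (α := PrimeSpectrum k) _ _]
    exact isOpen_univ
  rw [FlatMor.fibreDimAt, ← FibDimLib.localDim_eq_of_isOpenEmbedding hopen, FibDimLib.localDim_of_irreducible f, hX]

variable [IsAlgClosed k] [IsProper (X ↘ Spec (CommRingCat.of k))]

/-- Serre duality for an invertible module. -/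
theorem hh_dual [ConnectedSpace X] [SmoothOfRelativeDimension 2 (X ↘ Spec (CommRingCat.of k))] {r : ℕ}
    (ι : X ⟶ CohB1.ProjSpace r k) [IsClosedImmersion ι] (hι : ι ≫ CohB1.ProjSpace.toSpec r k = X ↘ Spec (CommRingCat.of k))
    {W : X.Modules} (hW : ExtPow.IsExtPow 2 (Omega.sheaf (X ↘ Spec (CommRingCat.of k))) W)
    {L L' : X.Modules} (hL : PicF.IsInvertible L) (e : CohB1.tensorMod L L' ≅ Coh.structureModule X) (p : ℕ) (hp : p ≤ 2) :
    hh k L p = hh k (CohB1.tensorMod L' W) (2 - p) := by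
  haveI := CurvLib.isNoetherian k (X := X)
  haveI : DCoh.HasSheafHom L := (HomCohLib.homAdj L).isLeftAdjoint
  obtain ⟨φ⟩ := Groth.Agent.S5668.result k 2 r X ι hι W hW L
    (CurveVBLib.isFinLocFree_of_rank (CurvLib.locFree_of_isInvertible hL)) p hp
  rw [hh, ← Subspace.dual_finrank_eq, φ.finrank_eq]
  exact hh_congr (k := k) (HomCohLib.sheafHomIso L W ≪≫ FLI.homModIso e W) (2 - p)

omit [IsAlgClosed k] in
theorem euler_eq_three {M : X.Modules} (hX : topologicalKrullDim X ≤ ((2 : ℕ) : WithBot ℕ∞)) :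
    Curv2.euler k X M = (hh k M 0 : ℤ) - hh k M 1 + hh k M 2 := by
  haveI := CurvLib.isNoetherian k (X := X)
  rw [CurvLib.euler_eq_sum (d := 3) fun i hi => CurvLib.subsingleton_HH_of_dim_le M hX i (by omega)]
  simp [Finset.sum_range_succ, hh]
  ring

theorem euler_dual [ConnectedSpace X] [SmoothOfRelativeDimension 2 (X ↘ Spec (CommRingCat.of k))]
    (hX : topologicalKrullDim X ≤ ((2 : ℕ) : WithBot ℕ∞)) {r : ℕ}
    (ι : X ⟶ CohB1.ProjSpace r k) [IsClosedImmersion ι] (hι : ι ≫ CohB1.ProjSpace.toSpec r k = X ↘ Spec (CommRingCat.of k))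
    {W : X.Modules} (hW : ExtPow.IsExtPow 2 (Omega.sheaf (X ↘ Spec (CommRingCat.of k))) W)
    {L L' : X.Modules} (hL : PicF.IsInvertible L) (e : CohB1.tensorMod L L' ≅ Coh.structureModule X) :
    Curv2.euler k X L = Curv2.euler k X (CohB1.tensorMod L' W) := by
  rw [euler_eq_three hX, euler_eq_three hX, hh_dual ι hι hW hL e 0 (by omega), hh_dual ι hι hW hL e 1 (by omega),
    hh_dual ι hι hW hL e 2 le_rfl]
  simp
  ring

omit [IsAlgClosed k] in
theorem isInvertible_canonical [SmoothOfRelativeDimension 2 (X ↘ Spec (CommRingCat.of k))]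
    {W : X.Modules} (hW : ExtPow.IsExtPow 2 (Omega.sheaf (X ↘ Spec (CommRingCat.of k))) W) : PicF.IsInvertible W := by
  haveI := CurvLib.isNoetherian k (X := X)
  exact CohCmpLib.isInvertible_of_isExtPow (CohCmpLib.rank_omega _ 2) hW

/-- Riemann–Roch. -/
theorem riemann_roch [IsIntegral X] [Smooth (X ↘ Spec (CommRingCat.of k))] (hX : topologicalKrullDim X = ((2 : ℕ) : WithBot ℕ∞))
    {r : ℕ} (ι : X ⟶ CohB1.ProjSpace r k) [IsClosedImmersion ι] (hι : ι ≫ CohB1.ProjSpace.toSpec r k = X ↘ Spec (CommRingCat.of k))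
    {W : X.Modules} (hW : ExtPow.IsExtPow 2 (Omega.sheaf (X ↘ Spec (CommRingCat.of k))) W)
    {L : X.Modules} (hL : PicF.IsInvertible L) :
    2 * Curv2.euler k X L = pr k L L - pr k L W + 2 * Curv2.euler k X (Coh.structureModule X) := by
  haveI := CurvLib.isNoetherian k (X := X)
  haveI := smoothRel_of_dim (k := k) hX
  have hWi := isInvertible_canonical (k := k) hW
  have hD := MiscFlat6.dual_isInvertible hL
  obtain ⟨e⟩ := MiscFlat6.nonempty_dualIso hL
  have h1 := euler_dual hX.le ι hι hW hL e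
  have h0 := euler_dual hX.le ι hι hW (L' := Coh.structureModule X) CurvLib.isInvertible_structureModule (unitLeft _)
  rw [CurvLib.euler_congr (k := k) (unitLeft W)] at h0
  have h2 := euler_tensor (k := k) W (MiscFlat6.dual L)
  have h3 := euler_tensor (k := k) L (MiscFlat6.dual L)
  rw [CurvLib.euler_congr (k := k) (swapIso _ _ ≪≫ e)] at h3
  have hi := pr_inverse (k := k) hX.le hL hD hWi e
  have hi2 := pr_inverse (k := k) hX.le hL hD hL e
  have c1 := pr_comm (k := k) W (MiscFlat6.dual L)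
  have c2 := pr_comm (k := k) L (MiscFlat6.dual L)
  unfold HodgeIdxLib.pr at *
  omega

end SurfNumLib
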