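import Groth.Agent.SurfNumLib.Eff
import Groth.Agent.AVAmpleLib.CurveThrough

/-!
# Curves meeting the divisor of a section
-/

set_option autoImplicit false
set_option linter.style.haveILetI false
universe u

open CategoryTheory CategoryTheory.Limits AlgebraicGeometry TopologicalSpace Opposite
open HilbPolyLib DevissLib IntMultLib IntFunLib HodgeIdxLib
open KFlatLib (pb puSec)
open TwistLib (genSet)

noncomputable section

namespace SurfNumLib

variable {k : Type u} [Field k] {X : Scheme.{u}} [X.Over (Spec (CommRingCat.of k))]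
  [IsProper (X ↘ Spec (CommRingCat.of k))] [IsIntegral X]

theorem gen_of_ne_zero {P : X.Modules} (hP : PicF.IsInvertible P) {φ : Coh.structureModule X ⟶ P} (hφ : φ ≠ 0) :
    genericPoint X ∈ genSet hP (φ.app ⊤ (1 : Γ(X, ⊤))) := by
  refine IntMultLib.genAt_of_unitHom_surjective hP _ fun b => ?_
  rw [← eq_unitHom φ]
  have hsub := CurvLib.generic_notMem_support_cokernel CurvLib.isInvertible_structureModule hP hφ
  haveI : Mono φ := CurvLib.mono_of_ne_zero CurvLib.isInvertible_structureModule hP hφ
  have hS : (ShortComplex.mk φ (cokernel.π φ) (cokernel.condition φ)).ShortExact :=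
    { exact := ShortComplex.exact_cokernel φ, mono_f := inferInstanceAs (Mono φ)
      epi_g := inferInstanceAs (Epi (cokernel.π φ)) }
  have hex := (ShortComplex.ShortExact.moduleCat_exact_iff_function_exact _).1
    (hS.map_of_exact (DerSch.stalkFunctor X (genericPoint X))).exact b
  exact hex.mp (@Subsingleton.elim _ (not_not.mp hsub) _ _)

variable (k) in
include k in
theorem dim_pos_of_section {P : X.Modules} (hP : PicF.IsInvertible P) (σ : Γ(P, ⊤))
    (hgen : genericPoint X ∈ genSet hP σ) {x : X} (hx : x ∉ genSet hP σ) (hxc : IsClosed ({x} : Set X)) :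
    ∃ y : X, y ∈ genSet hP σ ∧ y ⤳ x ∧ topologicalKrullDim (closure ({y} : Set X)) = 1 := by
  obtain ⟨y, hy, hyx, hyd⟩ := AVAmpleLib.exists_curve_not_mem (X ↘ Spec (CommRingCat.of k)) x hxc
    (F := (genSet hP σ : Set X)ᶜ) (genSet hP σ).isOpen.isClosed_compl hx
    (fun h => (Set.eq_univ_iff_forall.mp h (genericPoint X)) hgen)
  exact ⟨y, not_not.mp hy, hyx, hyd⟩

/-- A section with zeros has positive degree on some curve. -/
theorem exists_curve_pos {P : X.Modules} (hP : PicF.IsInvertible P) {φ : Coh.structureModule X ⟶ P} (hφ : φ ≠ 0)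
    (hne : (CohB1.support (cokernel φ)).Nonempty) :
    ∃ y : X, topologicalKrullDim (closure ({y} : Set X)) = ((1 : ℕ) : WithBot ℕ∞) ∧ 0 < N k [P] (Fpt y) := by
  haveI := CurvLib.isNoetherian k (X := X)
  let σ := φ.app ⊤ (1 : Γ(X, ⊤))
  have hφσ : φ = QCohLib.unitHom P σ := eq_unitHom φ
  obtain ⟨x, hx⟩ : ∃ x : X, x ∉ genSet hP σ := by
    by_contra h
    push Not at h
    haveI : IsIso (QCohLib.unitHom P σ) := AmpleLib.isIso_unitHom σ (TwistLib.genOn_of_genAt fun y _ => h y)
    haveI : IsIso φ := hφσ ▸ ‹_›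
    rw [support_of_isZero (isZero_cokernel_of_epi φ)] at hne
    exact Set.not_nonempty_empty hne
  obtain ⟨e, he, hec⟩ := IsClosed.exists_closed_singleton ((genSet hP σ).isOpen.isClosed_compl) ⟨x, hx⟩
  obtain ⟨y, hy, hye, hyd⟩ := dim_pos_of_section k hP σ (gen_of_ne_zero hP hφ) he hec
  refine ⟨y, by rw [hyd, Nat.cast_one], ?_⟩
  haveI := isIntegral_ptIdeal y
  let W := (ptIdeal y).subscheme
  let g : W ⟶ X := (ptIdeal y).subschemeι
  letI : W.Over (Spec (CommRingCat.of k)) := ⟨g ≫ (X ↘ Spec (CommRingCat.of k))⟩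
  haveI : IsProper (W ↘ Spec (CommRingCat.of k)) :=
    inferInstanceAs (IsProper (g ≫ (X ↘ Spec (CommRingCat.of k))))
  haveI := CurvLib.isNoetherian k (X := W)
  have hW : topologicalKrullDim W = 1 := by
    rw [← hyd]
    exact (g.isEmbedding.toHomeomorph.trans
      (Homeomorph.setCongr (range_ptIdeal y))).isHomeomorph.topologicalKrullDim_eq
  have hrfl : g ≫ (X ↘ Spec (CommRingCat.of k)) = W ↘ Spec (CommRingCat.of k) := rfl
  have hPW := AmpleDevLib.isInvertible_pb g hP
  let τ : Γ(pb g P, ⊤) := puSec g σ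
  have hgenW : ∀ w : W, w ∈ genSet hPW τ ↔ g w ∈ genSet hP σ := fun w => by
    rw [AmpleDevLib.genSet_puSec g hP σ]; rfl
  have hτ : genericPoint W ∈ genSet hPW τ := by
    rw [hgenW]
    have : g (genericPoint W) = y := by
      refine IsGenericPoint.eq ?_ (isGenericPoint_closure (x := y))
      have := (genericPoint_spec W).image g.continuous
      rwa [Set.image_univ, range_ptIdeal, closure_closure] at this
    rw [this]; exact hy
  have he' : e ∈ Set.range g := by
    rw [range_ptIdeal]
    exact specializes_iff_mem_closure.mp hye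
  obtain ⟨w, hw⟩ := he'
  let ψ := QCohLib.unitHom (pb g P) τ
  have hψ : ψ ≠ 0 := fun h0 => by
    have hτ0 : τ = 0 := by
      have h2 := congr_arg (fun χ : Coh.structureModule W ⟶ pb g P => χ.app ⊤ (1 : Γ(W, ⊤))) h0
      change (QCohLib.unitHom (pb g P) τ).app ⊤ (1 : Γ(W, ⊤)) = 0 at h2
      rwa [QCohLib.unitHom_app, one_smul,
        show (pb g P).presheaf.map (homOfLE (le_top : ⊤ ≤ (⊤ : W.Opens))).op τ = τ from QCohLib.toSections_top _ τ] at h2
    have hb : AmpleLib.GenAt (pb g P) τ (show genericPoint W ∈ (⊤ : W.Opens) from trivial) := hτ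
    rw [hτ0] at hb
    refine one_ne_zero (hb.1 (a₁ := (1 : W.presheaf.stalk (genericPoint W))) (a₂ := 0) ?_)
    simp
  have hlt : Curv2.euler k W (Coh.structureModule W) < Curv2.euler k W (pb g P) := by
    refine lt_of_le_of_ne (CurvLib.euler_le (k := k) CurvLib.isInvertible_structureModule hPW hW hψ) fun h => ?_
    haveI := CurvLib.isIso_of_euler_le (k := k) CurvLib.isInvertible_structureModule hPW hW hψ h.ge
    have hwg : w ∈ genSet hPW τ := IntMultLib.genAt_of_unitHom_surjective hPW τ fun b => by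
      haveI : IsIso ((St w).map ψ) := inferInstance
      exact (ConcreteCategory.bijective_of_isIso ((St w).map ψ)).2 b
    rw [hgenW, hw] at hwg
    exact he hwg
  have h1 := euler_sub_eq_N (k := k) (pb g P)
  have h2 := N_push (k := k) hrfl (l := [P]) (by simpa using hP) (DevissLib.isCoh_structureModule W)
    ((topologicalKrullDim_subspace_le _ _).trans (by rw [hW]; simp))
  change N k [pb g P] (Coh.structureModule W) = N k [P] (Fpt y) at h2
  omega

end SurfNumLib
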