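import Groth.Agent.SurfNumLib.Basic
import Groth.Agent.IntFunLib.StrictNef
import Groth.Agent.MiscFlat6.InvDual

/-!
# Effective classes on an integral surface
-/

set_option autoImplicit false
set_option linter.style.haveILetI false
universe u

open CategoryTheory CategoryTheory.Limits AlgebraicGeometry TopologicalSpace Opposite
open HilbPolyLib DevissLib IntMultLib IntFunLib HodgeIdxLib
open TwistLib (genSet)

noncomputable section

namespace SurfNumLib

theorem eq_unitHom {X : Scheme.{u}} {P : X.Modules} (φ : Coh.structureModule X ⟶ P) :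
    φ = QCohLib.unitHom P (φ.app ⊤ (1 : Γ(X, ⊤))) := by
  have h1 : QCohLib.unitHom (Coh.structureModule X) (1 : Γ(X, ⊤)) = 𝟙 _ := by
    apply Scheme.Modules.hom_ext
    intro V
    refine ConcreteCategory.hom_ext _ _ fun r => ?_
    rw [QCohLib.unitHom_app]
    refine Eq.trans ?_ (mul_one (show Γ(X, V) from r))
    exact congrArg (fun t : Γ(X, V) => (show Γ(X, V) from r) * t) (map_one (X.presheaf.map (homOfLE (le_top : V ≤ ⊤)).op).hom)
  conv_lhs => rw [← Category.id_comp φ, ← h1, QCohLib.app_unitHom_app]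

variable {k : Type u} [Field k] {X : Scheme.{u}} [X.Over (Spec (CommRingCat.of k))]
  [IsProper (X ↘ Spec (CommRingCat.of k))] [IsIntegral X]

/-- A section which is not an isomorphism has positive degree against an ample module. -/
theorem pos_of_section (hX : topologicalKrullDim X = ((2 : ℕ) : WithBot ℕ∞)) {P A : X.Modules}
    (hP : PicF.IsInvertible P) (hA : CohB1.IsAmple A) {φ : Coh.structureModule X ⟶ P} (hφ : φ ≠ 0)
    (hne : (CohB1.support (cokernel φ)).Nonempty) : 0 < pr k P A := by
  haveI := CurvLib.isNoetherian k (X := X)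
  obtain ⟨hc, hd⟩ := dim_cokernel_le k (n := 1) hX hP hφ
  obtain ⟨x, hx⟩ := hne
  let σ := φ.app ⊤ (1 : Γ(X, ⊤))
  have hφσ : φ = QCohLib.unitHom P σ := eq_unitHom φ
  have hS := cokSeq_shortExact hP hφ
  have hsupp : ∀ y, y ∉ genSet hP σ → y ∈ CohB1.support (cokernel φ) := by
    intro y hy hsub
    refine hy (IntMultLib.genAt_of_unitHom_surjective hP σ fun b => ?_)
    rw [← hφσ]
    have hex := (ShortComplex.ShortExact.moduleCat_exact_iff_function_exact _).1
      (hS.map_of_exact (DerSch.stalkFunctor X y)).exact b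
    exact hex.mp (@Subsingleton.elim _ hsub _ _)
  have hgen : genSet hP σ ≠ ⊤ := by
    intro htop
    haveI : IsIso (QCohLib.unitHom P σ) := AmpleLib.isIso_unitHom σ (TwistLib.genOn_of_genAt fun y hy => by
      have hy' : y ∈ genSet hP σ := by rw [htop]; trivial
      exact hy')
    haveI : IsIso φ := hφσ ▸ ‹_›
    have hz : IsZero (cokernel φ) := isZero_cokernel_of_epi φ
    rw [support_of_isZero hz] at hx
    exact hx
  obtain ⟨y, hy⟩ : ∃ y : X, y ∉ genSet hP σ := by
    by_contra h
    push Not at h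
    exact hgen (eq_top_iff.mpr fun y _ => h y)
  have hcl := QCohLib.isClosed_support _ hc.2
  obtain ⟨η, -, hη, hηd, -⟩ := HilbPolyLib.exists_top_component hcl (d := 1)
    (le_antisymm hd (IntMultLib.le_dim_zeroLocus (k := k) hX hP σ hy hsupp))
  rw [pr, ← N_cokernel hX hP hA.1 hφ]
  exact N_pos (l := [A]) (by simpa using hA.1) hc hd hη hηd fun ξ _ hξ => N_ample_pos (k := k) (d := 1) hA hξ

omit [IsProper (X ↘ Spec (CommRingCat.of k))] [X.Over (Spec (CommRingCat.of k))] in
theorem support_quotMod_eq (J : X.IdealSheafData) : CohB1.support (ClSub.quotMod J) = (J.support : Set X) := by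
  refine Set.Subset.antisymm (CurvLib.support_quotMod_subset J) fun z hz => ?_
  rw [← J.range_subschemeι] at hz
  obtain ⟨w, rfl⟩ := hz
  exact mem_support_push_unit J.subschemeι w

/-- The section of the inverse of an invertible ideal: its cokernel lives on the subscheme. -/
theorem exists_section_inverse {J : X.IdealSheafData} (hI : PicF.IsInvertible (ClSub.idealMod J)) {L : X.Modules}
    (hL : PicF.IsInvertible L) (e : CohB1.tensorMod L (ClSub.idealMod J) ≅ Coh.structureModule X)
    (hJ : J ≠ ⊥) : ∃ φ : Coh.structureModule X ⟶ L, φ ≠ 0 ∧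
      CohB1.support (cokernel φ) = (J.support : Set X) := by
  let S := (CurvLib.idealSeq J).map (CurvLib.tensorLeft' L)
  have hS : S.ShortExact := HilbPolyLib.shortExact_tensor hL (CurvLib.idealSeq_shortExact J)
  let u : CohB1.tensorMod L (Coh.structureModule X) ≅ L := swapIso _ _ ≪≫ unitLeft _
  let e' : S.X₁ ≅ Coh.structureModule X := e
  let u' : S.X₂ ≅ L := u
  haveI := hS.mono_f
  refine ⟨e'.inv ≫ S.f ≫ u'.hom, fun h0 => ?_, ?_⟩
  · haveI : Mono (e'.inv ≫ S.f ≫ u'.hom) := inferInstance
    have hz : IsZero (Coh.structureModule X) := (IsZero.iff_id_eq_zero _).mpr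
      ((cancel_mono (e'.inv ≫ S.f ≫ u'.hom)).mp (by rw [h0, comp_zero, comp_zero]))
    have h1 := support_of_isZero hz
    rw [support_structureModule'] at h1
    exact Set.not_nonempty_empty (h1 ▸ (⟨genericPoint X, trivial⟩ : (Set.univ : Set X).Nonempty))
  · have hc : cokernel S.f ≅ S.X₃ := (colimit.isColimit _).coconePointUniqueUpToIso hS.gIsCokernel
    rw [DevissLib.support_iso ((cokernel.mapIso S.f (e'.inv ≫ S.f ≫ u'.hom) e' u' (by simp)).symm ≪≫ hc),
      ← support_quotMod_eq J]
    exact HilbPolyLib.support_tensor hL (ClSub.quotMod J)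

theorem effCartier_ne_bot {J : X.IdealSheafData} (hJ : BlowUp.IsEffCartierIdeal J) : J ≠ ⊥ := fun h => by
  obtain ⟨U, hxU, f, hf, hU⟩ := hJ (genericPoint X)
  haveI : Nonempty U.1 := ⟨⟨_, hxU⟩⟩
  rw [h, Scheme.IdealSheafData.ideal_bot, Pi.bot_apply, eq_comm, Ideal.span_singleton_eq_bot] at hU
  exact zero_notMem_nonZeroDivisors (hU ▸ hf)

/-- The class of an effective Cartier divisor. -/
theorem pr_effCartier_pos (hX : topologicalKrullDim X = ((2 : ℕ) : WithBot ℕ∞)) {J : X.IdealSheafData}
    (hJ : BlowUp.IsEffCartierIdeal J) (hne : J ≠ ⊤) {A : X.Modules} (hA : CohB1.IsAmple A) :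
    pr k (ClSub.idealMod J) A < 0 := by
  have hI := IntMultLib.isInvertible_idealMod J hJ
  have hD := MiscFlat6.dual_isInvertible hI
  obtain ⟨e⟩ := MiscFlat6.nonempty_dualIso hI
  obtain ⟨φ, hφ, hs⟩ := exists_section_inverse hI hD (swapIso _ _ ≪≫ e) (effCartier_ne_bot hJ)
  have hne' : (CohB1.support (cokernel φ)).Nonempty := by
    rw [hs]
    by_contra h0
    refine hne ((Scheme.IdealSheafData.support_eq_bot_iff (I := J)).mp (SetLike.ext fun x => iff_of_false ?_ ?_))
    · exact fun hx => h0 ⟨x, hx⟩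
    · exact fun hx => hx.elim
  have h := pos_of_section (k := k) hX hD hA hφ hne'
  rw [pr_inverse hX.le hI hD hA.1 e] at h
  omega

omit [IsIntegral X] in
theorem pr_ideal (J : X.IdealSheafData) (hJc : Coh.IsCoh (ClSub.idealMod J)) {T : X.Modules}
    (hT : PicF.IsInvertible T) : pr k (ClSub.idealMod J) T = -N k [T] (ClSub.quotMod J) := by
  haveI := CurvLib.isNoetherian k (X := X)
  have hadd := N_add (k := k) (l := [T]) (by simpa using hT) (CurvLib.idealSeq_shortExact J) hJc
    (DevissLib.isCoh_structureModule X) (CurvLib.isCoh_quotMod J)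
  change N k [T] (Coh.structureModule X) = N k [T] (ClSub.idealMod J) + N k [T] (ClSub.quotMod J) at hadd
  rw [pr, N_unit]
  omega

end SurfNumLib
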