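import Groth.Agent.SurfNumLib.CastSev
import Groth.Agent.SurfNumLib.IdealMul
import Groth.Agent.FibDimLib.Comps
import Groth.Agent.CubeLib.Glue
import Groth.Agent.S5758
import Groth.Agent.PushLinLib.HH
import Groth.Agent.IntFunLib.Main

/-!
# Two curves without common component on a Cohen–Macaulay surface
-/

set_option autoImplicit false
set_option linter.style.haveILetI false
universe u

open CategoryTheory CategoryTheory.Limits AlgebraicGeometry TopologicalSpace Opposite
open HilbPolyLib DevissLib IntMultLib IntFunLib HodgeIdxLib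
open KFlatLib (pb puSec)
open scoped Pointwise

noncomputable section

namespace SurfNumLib

/-- Two elements cutting a Cohen–Macaulay local ring of dimension two down to dimension zero. -/
theorem nzd_cm {A : Type u} [CommRing A] [LocCoh.IsCohenMacaulayLocalRing A] (hA : ringKrullDim A = 2) {a b : A}
    (ha : a ∈ IsLocalRing.maximalIdeal A) (hb : b ∈ IsLocalRing.maximalIdeal A)
    (hp : ∀ p : Ideal A, p.IsPrime → a ∈ p → b ∈ p → p = IsLocalRing.maximalIdeal A)
    {r : A} (hr : r * b ∈ Ideal.span {a}) : r ∈ Ideal.span {a} := by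
  have hCM : LocCoh.IsCohenMacaulayModule A A := LocCoh.IsCohenMacaulayLocalRing.supportDim_eq_depth
  have hmem : ∀ x ∈ [a, b], x ∈ IsLocalRing.maximalIdeal A :=
    List.forall_mem_cons.mpr ⟨ha, List.forall_mem_cons.mpr ⟨hb, fun x hx => absurd hx List.not_mem_nil⟩⟩
  have hJ : (Ideal.ofList [a, b]) • (⊤ : Submodule A A) = Ideal.ofList [a, b] := by
    rw [smul_eq_mul, Ideal.mul_top]
  have hd : Module.supportDim A (A ⧸ (Ideal.ofList [a, b] • (⊤ : Submodule A A))) = 0 := by
    rw [hJ, Module.supportDim_quotient_eq_ringKrullDim]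
    haveI : Nontrivial (A ⧸ Ideal.ofList [a, b]) := Ideal.Quotient.nontrivial_iff.mpr fun h =>
      (IsLocalRing.maximalIdeal.isMaximal A).ne_top (top_le_iff.mp (h ▸ Ideal.span_le.mpr hmem))
    haveI : Subsingleton (PrimeSpectrum (A ⧸ Ideal.ofList [a, b])) := ⟨fun P Q => by
      refine PrimeSpectrum.ext (Ideal.comap_injective_of_surjective (Ideal.Quotient.mk (Ideal.ofList [a, b]))
        Ideal.Quotient.mk_surjective ?_)
      have h : ∀ R : PrimeSpectrum (A ⧸ Ideal.ofList [a, b]), R.asIdeal.comap (Ideal.Quotient.mk _) =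
          IsLocalRing.maximalIdeal A := fun R => by
        refine hp _ inferInstance ?_ ?_
        · rw [Ideal.mem_comap, Ideal.Quotient.eq_zero_iff_mem.mpr (Ideal.subset_span (by simp))]; exact zero_mem _
        · rw [Ideal.mem_comap, Ideal.Quotient.eq_zero_iff_mem.mpr (Ideal.subset_span (by simp))]; exact zero_mem _
      rw [h P, h Q]⟩
    exact Order.krullDim_eq_zero_iff_of_orderTop.mpr inferInstance
  have hw := ((Groth.Agent.S5758.result A A hCM [a, b] hmem).1).mpr (by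
    rw [hd, Module.supportDim_self_eq_ringKrullDim, hA]; rfl)
  have h2 := ((RingTheory.Sequence.isWeaklyRegular_cons_iff A a [b]).mp hw).2
  have h3 := ((RingTheory.Sequence.isWeaklyRegular_cons_iff _ b []).mp h2).1
  have h4 : r • (1 : A) ∈ Ideal.span ({a} : Set A) := by
    have key := (isSMulRegular_quotient_iff_mem_of_smul_mem (a • (⊤ : Submodule A A)) b).mp h3 r (by
      rw [smul_eq_mul, mul_comm]
      obtain ⟨c, hc⟩ := Ideal.mem_span_singleton'.mp hr
      rw [← hc]
      exact ⟨c, trivial, by simp [mul_comm]⟩)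
    obtain ⟨c, -, hc⟩ := key
    exact Ideal.mem_span_singleton'.mpr ⟨c, by rw [smul_eq_mul, mul_one, ← hc]; simp [mul_comm]⟩
  simpa using h4

variable {k : Type u} [Field k] {X : Scheme.{u}} [X.Over (Spec (CommRingCat.of k))]
  [IsProper (X ↘ Spec (CommRingCat.of k))]

variable (k) in
include k in
/-- Finite closed sets consist of closed points. -/
theorem isClosed_of_finite {Z : Set X} (hZ : IsClosed Z) (hf : Z.Finite) {x : X} (hx : x ∈ Z) : IsClosed ({x} : Set X) := by
  haveI : JacobsonSpace X := LocallyOfFiniteType.jacobsonSpace (X ↘ Spec (CommRingCat.of k))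
  have h := closure_inter_closedPoints (isClosed_closure (s := ({x} : Set X)))
  have hfin : (closure ({x} : Set X) ∩ closedPoints X).Finite :=
    hf.subset fun y hy => closure_minimal (Set.singleton_subset_iff.mpr hx) hZ hy.1
  have hcl : IsClosed (closure ({x} : Set X) ∩ closedPoints X) := by
    rw [← Set.biUnion_of_singleton (closure ({x} : Set X) ∩ closedPoints X)]
    exact hfin.isClosed_biUnion fun y hy => hy.2
  rw [hcl.closure_eq] at h
  have : x ∈ closure ({x} : Set X) ∩ closedPoints X := by rw [h]; exact subset_closure rfl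
  exact this.2

variable (k) in
include k in
theorem nzd_affine (hdim : ∀ Z ∈ irreducibleComponents (X : Type u), topologicalKrullDim Z = 2)
    (hCM : ∀ x : X, LocCoh.IsCohenMacaulayLocalRing (X.presheaf.stalk x)) (IC ID : X.IdealSheafData)
    (hfin : ((IC ⊔ ID).support : Set X).Finite) (U : X.affineOpens) {a b : Γ(X, U.1)}
    (hC : IC.ideal U = Ideal.span {a}) (hD : ID.ideal U = Ideal.span {b}) :
    Ideal.Quotient.mk (IC.ideal U) b ∈ nonZeroDivisors (Γ(X, U.1) ⧸ IC.ideal U) := by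
  haveI := CurvLib.isNoetherian k (X := X)
  refine mem_nonZeroDivisors_iff_right.mpr fun z hz => ?_
  obtain ⟨r, rfl⟩ := Ideal.Quotient.mk_surjective z
  rw [← map_mul, Ideal.Quotient.eq_zero_iff_mem] at hz
  rw [Ideal.Quotient.eq_zero_iff_mem]
  rw [hC] at hz ⊢
  let J : Ideal Γ(X, U.1) :=
    { carrier := {s | s * r ∈ Ideal.span {a}}
      add_mem' := fun {s t} (hs : s * r ∈ Ideal.span {a}) (ht : t * r ∈ Ideal.span {a}) =>
        show (s + t) * r ∈ Ideal.span {a} by rw [add_mul]; exact add_mem hs ht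
      zero_mem' := show (0 : Γ(X, U.1)) * r ∈ Ideal.span {a} by rw [zero_mul]; exact zero_mem _
      smul_mem' := fun c s (hs : s * r ∈ Ideal.span {a}) =>
        show (c * s) * r ∈ Ideal.span {a} by rw [mul_assoc]; exact Ideal.mul_mem_left _ c hs }
  suffices h1 : J = ⊤ by
    have h2 : (1 : Γ(X, U.1)) * r ∈ Ideal.span {a} := (Ideal.eq_top_iff_one J).mp h1
    rwa [one_mul] at h2
  by_contra hJ
  obtain ⟨m, hm, hJm⟩ := Ideal.exists_le_maximal J hJ
  have ham : a ∈ m := hJm (show a * r ∈ _ from Ideal.mul_mem_right _ _ (Ideal.mem_span_singleton_self a))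
  have hbm : b ∈ m := hJm (show b * r ∈ _ by rw [mul_comm]; exact hz)
  have hsup : ∀ P : PrimeSpectrum Γ(X, U.1), a ∈ P.asIdeal → b ∈ P.asIdeal →
      U.2.fromSpec P ∈ ((IC ⊔ ID).support : Set X) := by
    intro P h1 h2
    have hmem : U.2.fromSpec P ∈ U.1 := U.2.range_fromSpec.le ⟨P, rfl⟩
    rw [SetLike.mem_coe, SDivLib.mem_support_iff_le (IC ⊔ ID) U hmem, Scheme.IdealSheafData.ideal_sup, Pi.sup_apply, hC, hD]
    have hP : SDivLib.prm U hmem = P.asIdeal := by
      have : U.2.primeIdealOf ⟨U.2.fromSpec P, hmem⟩ = P :=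
        U.2.fromSpec.isOpenEmbedding.injective (U.2.fromSpec_primeIdealOf ⟨_, hmem⟩)
      exact congrArg PrimeSpectrum.asIdeal this
    rw [hP]
    exact sup_le ((Ideal.span_singleton_le_iff_mem _).mpr h1) ((Ideal.span_singleton_le_iff_mem _).mpr h2)
  have hmax : ∀ P : PrimeSpectrum Γ(X, U.1), a ∈ P.asIdeal → b ∈ P.asIdeal → P.asIdeal.IsMaximal := fun P h1 h2 => by
    rw [← PrimeSpectrum.isClosed_singleton_iff_isMaximal]
    have h := (isClosed_of_finite k (IC ⊔ ID).support.isClosed hfin (hsup P h1 h2)).preimage U.2.fromSpec.continuous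
    have e : ({P} : Set (PrimeSpectrum Γ(X, U.1))) = U.2.fromSpec ⁻¹' {U.2.fromSpec P} :=
      Set.ext fun Q => ⟨fun hQ => congrArg _ hQ, fun hQ => U.2.fromSpec.isOpenEmbedding.injective hQ⟩
    exact (congrArg IsClosed e).mpr h
  haveI := hm.isPrime
  let P₀ : PrimeSpectrum Γ(X, U.1) := ⟨m, inferInstance⟩
  obtain ⟨x, hx⟩ : ∃ x : X, U.2.fromSpec P₀ = x := ⟨_, rfl⟩
  have hxU : x ∈ U.1 := hx ▸ U.2.range_fromSpec.le ⟨P₀, rfl⟩
  have hxc : IsClosed ({x} : Set X) := hx ▸ isClosed_of_finite k (IC ⊔ ID).support.isClosed hfin (hsup P₀ ham hbm)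
  letI := TopCat.Presheaf.algebra_section_stalk X.presheaf ⟨x, hxU⟩
  haveI hloc := U.2.isLocalization_stalk ⟨x, hxU⟩
  have hpr : U.2.primeIdealOf ⟨x, hxU⟩ = P₀ :=
    U.2.fromSpec.isOpenEmbedding.injective ((U.2.fromSpec_primeIdealOf ⟨x, hxU⟩).trans hx.symm)
  haveI : IsLocalization.AtPrime (X.presheaf.stalk x) m := by
    have e : (U.2.primeIdealOf ⟨x, hxU⟩).asIdeal = m := congrArg PrimeSpectrum.asIdeal hpr
    simpa only [e] using hloc
  haveI := hCM x
  have hd2 : ringKrullDim (X.presheaf.stalk x) = 2 := by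
    rw [← FibDimLib.localDim_eq_stalk_of_isClosed (X ↘ Spec (CommRingCat.of k)) hxc,
      FibDimLib.IsPureDim.localDim_eq (X ↘ Spec (CommRingCat.of k)) (e := 2) hdim x]
    rfl
  let φ := algebraMap Γ(X, U.1) (X.presheaf.stalk x)
  have hmm : ∀ y ∈ m, φ y ∈ IsLocalRing.maximalIdeal (X.presheaf.stalk x) := fun y hy =>
    (IsLocalization.AtPrime.to_map_mem_maximal_iff (X.presheaf.stalk x) m y).mpr hy
  have key := nzd_cm hd2 (hmm a ham) (hmm b hbm) (fun p hp h1 h2 => by
    have hle : p.comap φ ≤ m := by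
      intro y hy
      rw [← IsLocalization.AtPrime.to_map_mem_maximal_iff (X.presheaf.stalk x) m]
      exact IsLocalRing.le_maximalIdeal hp.ne_top hy
    have hmx := hmax ⟨p.comap φ, inferInstance⟩ h1 h2
    have := hmx.eq_of_le hm.ne_top hle
    rw [← IsLocalization.map_comap m.primeCompl (X.presheaf.stalk x) p,
      ← IsLocalization.AtPrime.map_eq_maximalIdeal m (X.presheaf.stalk x)]
    exact congrArg _ this) (r := φ r) (by
    rw [← map_mul, ← Set.image_singleton, ← Ideal.map_span]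
    exact Ideal.mem_map_of_mem φ hz)
  rw [← Set.image_singleton, ← Ideal.map_span, IsLocalization.algebraMap_mem_map_algebraMap_iff m.primeCompl] at key
  obtain ⟨s, hs, hsr⟩ := key
  exact hs (hJm hsr)

omit [X.Over (Spec (CommRingCat.of k))] [IsProper (X ↘ Spec (CommRingCat.of k))] in
theorem exists_common_chart {IC ID : X.IdealSheafData} (hC : BlowUp.IsEffCartierIdeal IC)
    (hD : BlowUp.IsEffCartierIdeal ID) (x : X) : ∃ U : X.affineOpens, x ∈ U.1 ∧ ∃ a b : Γ(X, U.1),
      b ∈ nonZeroDivisors Γ(X, U.1) ∧ IC.ideal U = Ideal.span {a} ∧ ID.ideal U = Ideal.span {b} := by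
  obtain ⟨U₂, hx₂, b, hb, hJ₂⟩ := hD x
  obtain ⟨U₁, hx₁, a, ha, hI₁⟩ := hC x
  obtain ⟨g, f, hfg, hxf⟩ := exists_basicOpen_le_affine_inter U₂.2 U₁.2 x ⟨hx₂, hx₁⟩
  let V : X.affineOpens := X.affineBasicOpen g
  have h₂ : V.1 ≤ U₂.1 := X.basicOpen_le g
  have h₁ : V.1 ≤ U₁.1 := hfg.le.trans (X.basicOpen_le f)
  refine ⟨V, hxf, X.presheaf.map (homOfLE h₁).op a, X.presheaf.map (homOfLE h₂).op b, ?_, ?_, ?_⟩
  · haveI := U₂.2.isLocalization_basicOpen g
    exact IsLocalization.map_nonZeroDivisors_le (Submonoid.powers g) Γ(X, X.basicOpen g) (Submonoid.mem_map_of_mem _ hb)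
  · rw [← IC.map_ideal (U := V) (V := U₁) h₁, hI₁, Ideal.map_span, Set.image_singleton]; rfl
  · rw [← ID.map_ideal (U := V) (V := U₂) h₂, hJ₂, Ideal.map_span, Set.image_singleton]; rfl

omit [X.Over (Spec (CommRingCat.of k))] [IsProper (X ↘ Spec (CommRingCat.of k))] in
/-- On a closed subscheme where the equations stay nonzerodivisors, the ideal restricts to the ideal. -/
theorem restrict_data (IC ID : X.IdealSheafData)
    (h : ∀ x : X, ∃ U : X.affineOpens, x ∈ U.1 ∧ ∃ b : Γ(X, U.1), b ∈ nonZeroDivisors Γ(X, U.1) ∧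
      ID.ideal U = Ideal.span {b} ∧ Ideal.Quotient.mk (IC.ideal U) b ∈ nonZeroDivisors (Γ(X, U.1) ⧸ IC.ideal U)) :
    BlowUp.IsEffCartierIdeal (ID.comap IC.subschemeι) ∧ IsIso (PicH1Lib.toComap IC.subschemeι ID) ∧
      ((ID.comap IC.subschemeι).subschemeι ≫ IC.subschemeι).ker = IC ⊔ ID := by
  let ι := IC.subschemeι
  have hdata : ∀ z : IC.subscheme, ∃ (U : X.affineOpens), z ∈ ι ⁻¹ᵁ U.1 ∧
      ∃ b : Γ(X, U.1), b ∈ nonZeroDivisors Γ(X, U.1) ∧ ID.ideal U = Ideal.span {b} ∧
        (ι.app U.1).hom b ∈ nonZeroDivisors Γ(IC.subscheme, ι ⁻¹ᵁ U.1) ∧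
        (ID.comap ι).ideal ⟨ι ⁻¹ᵁ U.1, U.2.preimage ι⟩ = Ideal.span {(ι.app U.1).hom b} := by
    intro z
    obtain ⟨U, hxU, b, hb, hU, hnz⟩ := h (ι z)
    refine ⟨U, hxU, b, hb, hU, ?_, ?_⟩
    · rw [IC.subschemeι_app U]
      refine BlowUpLib.nzd_of_bijective ((IC.subschemeObjIso U).inv).hom (ConcreteCategory.bijective_of_isIso _) hnz
    · rw [Groth.Agent.S4666.ideal_comap_eq ID ι U ⟨ι ⁻¹ᵁ U.1, U.2.preimage ι⟩ le_rfl, hU, Ideal.map_span, Set.image_singleton,
        Scheme.Hom.appLE_eq_app]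
  refine ⟨fun z => ?_, TwistLib.isIso_of_gen _ fun z => ?_, ?_⟩
  · obtain ⟨U, hz, b, -, -, h1, h2⟩ := hdata z
    exact ⟨⟨ι ⁻¹ᵁ U.1, U.2.preimage ι⟩, hz, _, h1, h2⟩
  · obtain ⟨U, hz, b, hb, hU, h1, h2⟩ := hdata z
    obtain ⟨σ, hσ⟩ := IntMultLib.exists_section ID U (hU ▸ Ideal.mem_span_singleton_self b)
    have hg := genOn_of_generator ID U hb hU hσ
    refine ⟨ι ⁻¹ᵁ U.1, hz, puSec ι σ, TwistLib.GenAt.puSec ι (hg.genAt hz), ?_⟩
    refine (genOn_of_generator (ID.comap ι) ⟨ι ⁻¹ᵁ U.1, U.2.preimage ι⟩ h1 h2 ?_).genAt (hz)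
    have e := congrArg (fun φ : pb ι (ClSub.idealMod ID) ⟶ Coh.structureModule IC.subscheme =>
      φ.app (ι ⁻¹ᵁ U.1) (puSec ι σ)) (PicH1Lib.toComap_ι ι ID)
    refine e.trans ((PicH1Lib.pullIdeal_puSec ι ID σ).trans ?_)
    exact congrArg (ι.app U.1).hom hσ
  · refine Scheme.IdealSheafData.ext (funext fun U => ?_)
    rw [Scheme.IdealSheafData.ideal_sup, Pi.sup_apply, Scheme.Hom.ker_apply, Scheme.Hom.comp_app]
    change RingHom.ker (((ID.comap ι).subschemeι.app (ι ⁻¹ᵁ U.1)).hom.comp (ι.app U.1).hom) = _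
    rw [← RingHom.comap_ker]
    have hj : RingHom.ker ((ID.comap ι).subschemeι.app (ι ⁻¹ᵁ U.1)).hom =
        (ID.comap ι).ideal ⟨ι ⁻¹ᵁ U.1, U.2.preimage ι⟩ :=
      (ID.comap ι).ker_subschemeι_app ⟨ι ⁻¹ᵁ U.1, U.2.preimage ι⟩
    rw [hj, Groth.Agent.S4666.ideal_comap_eq ID ι U ⟨ι ⁻¹ᵁ U.1, U.2.preimage ι⟩ le_rfl, Scheme.Hom.appLE_eq_app,
      Ideal.comap_map_of_surjective _ (IC.subschemeι_app_surjective U), ← RingHom.ker_eq_comap_bot,
      IC.ker_subschemeι_app U, sup_comm]

omit [X.Over (Spec (CommRingCat.of k))] [IsProper (X ↘ Spec (CommRingCat.of k))] in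
theorem support_quotMod' (J : X.IdealSheafData) : CohB1.support (ClSub.quotMod J) = (J.support : Set X) := by
  refine Set.Subset.antisymm (CurvLib.support_quotMod_subset J) fun z hz => ?_
  rw [← J.range_subschemeι] at hz
  obtain ⟨w, rfl⟩ := hz
  exact mem_support_push_unit J.subschemeι w

/-- The intersection number is the length of the intersection. -/
theorem pr_eq_length (hX : topologicalKrullDim X ≤ ((2 : ℕ) : WithBot ℕ∞))
    (hdim : ∀ Z ∈ irreducibleComponents (X : Type u), topologicalKrullDim Z = 2)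
    (hCM : ∀ x : X, LocCoh.IsCohenMacaulayLocalRing (X.presheaf.stalk x)) {IC ID : X.IdealSheafData}
    (hC : BlowUp.IsEffCartierIdeal IC) (hD : BlowUp.IsEffCartierIdeal ID)
    (hfin : ((IC ⊔ ID).support : Set X).Finite) :
    pr k (ClSub.idealMod IC) (ClSub.idealMod ID) = (Module.finrank k (Coh.HH X (ClSub.quotMod (IC ⊔ ID)) 0) : ℤ) := by
  haveI := CurvLib.isNoetherian k (X := X)
  obtain ⟨hJ, hiso, hker⟩ := restrict_data IC ID fun x => by
    obtain ⟨U, hx, a, b, hb, h1, h2⟩ := exists_common_chart hC hD x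
    exact ⟨U, hx, b, hb, h2, nzd_affine k hdim hCM IC ID hfin U h1 h2⟩
  have hIC := IntMultLib.isInvertible_idealMod IC hC
  have hID := IntMultLib.isInvertible_idealMod ID hD
  let ι := IC.subschemeι
  let J := ID.comap ι
  letI : IC.subscheme.Over (Spec (CommRingCat.of k)) := ⟨ι ≫ (X ↘ Spec (CommRingCat.of k))⟩
  haveI : IsProper (IC.subscheme ↘ Spec (CommRingCat.of k)) :=
    inferInstanceAs (IsProper (ι ≫ (X ↘ Spec (CommRingCat.of k))))
  haveI := CurvLib.isNoetherian k (X := IC.subscheme)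
  rw [pr_ideal IC (CurvLib.isCoh_of_isInvertible hIC) hID]
  have hq : Curv2.euler k X (CohB1.tensorMod (ClSub.idealMod ID) (ClSub.quotMod IC)) =
      Curv2.euler k IC.subscheme (ClSub.idealMod J) := by
    haveI : HasInjectiveResolutions IC.subscheme.Modules := inferInstance
    have e := (ProjFormLib.nonempty_projection_formula ι (ClSub.idealMod ID)
      (CurveVBLib.isFinLocFree_of_rank (CurvLib.locFree_of_isInvertible hID)) (Coh.structureModule IC.subscheme) 0).some
    let φ := (Scheme.Modules.pushforward ι).rightDerivedZeroIsoSelf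
    have e' : CohB1.tensorMod (ClSub.idealMod ID) (ClSub.quotMod IC) ≅ (Coh.push ι).obj (pb ι (ClSub.idealMod ID)) :=
      congrRight _ (φ.app _).symm ≪≫ e ≪≫ φ.app _ ≪≫ (Coh.push ι).mapIso (swapIso _ _ ≪≫ unitLeft _)
    rw [CurvLib.euler_congr (k := k) e']
    haveI : Coh.IsQCoh (pb ι (ClSub.idealMod ID)) := TwistLib.isQCoh_of_isInvertible (AmpleDevLib.isInvertible_pb ι hID)
    rw [← (PushLinLib.euler_push k ι rfl _).2]
    exact CurvLib.euler_congr (k := k) (@asIso _ _ _ _ (PicH1Lib.toComap ι ID) hiso)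
  haveI : Coh.IsQCoh (Coh.structureModule IC.subscheme) := QCohLib.isQCoh_unit
  have hO : Curv2.euler k X (ClSub.quotMod IC) = Curv2.euler k IC.subscheme (Coh.structureModule _) :=
    ((PushLinLib.euler_push k ι rfl _).2).symm
  have hadd := CurvLib.euler_add_of_isCoh (k := k) (S := CurvLib.idealSeq J) (CurvLib.idealSeq_shortExact J)
    (CurvLib.isCoh_of_isInvertible (IntMultLib.isInvertible_idealMod J hJ))
    (DevissLib.isCoh_structureModule _) (CurvLib.isCoh_quotMod J)
  letI : J.subscheme.Over (Spec (CommRingCat.of k)) := ⟨J.subschemeι ≫ ι ≫ (X ↘ Spec (CommRingCat.of k))⟩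
  haveI : Coh.IsQCoh (Coh.structureModule J.subscheme) := QCohLib.isQCoh_unit
  have hJq : Curv2.euler k IC.subscheme (ClSub.quotMod J) = Curv2.euler k X (ClSub.quotMod (IC ⊔ ID)) := by
    obtain ⟨e⟩ := quotMod_ker_iso (J.subschemeι ≫ ι)
    rw [hker] at e
    rw [CurvLib.euler_congr (k := k) e, ← (PushLinLib.euler_push k (J.subschemeι ≫ ι) (Category.assoc _ _ _) _).2,
      ← (PushLinLib.euler_push k J.subschemeι rfl _).2]
  have hd0 : topologicalKrullDim (CohB1.support (ClSub.quotMod (IC ⊔ ID))) ≤ 0 := by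
    rw [support_quotMod']
    haveI := hfin.to_subtype
    haveI : T1Space ↥((IC ⊔ ID).support : Set X) := ⟨fun z => by
      have e : ({z} : Set ↥((IC ⊔ ID).support : Set X)) = Subtype.val ⁻¹' {z.1} :=
        Set.ext fun w => ⟨fun h => congrArg Subtype.val h, fun h => Subtype.ext h⟩
      exact e ▸ (isClosed_of_finite k (IC ⊔ ID).support.isClosed hfin z.2).preimage continuous_subtype_val⟩
    haveI : DiscreteTopology ((IC ⊔ ID).support : Set X) := inferInstance
    exact (topologicalKrullDim_zero_of_discreteTopology _)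
  rw [CurvLib.euler_eq_h0 (k := k) (CurvLib.isCoh_quotMod _) hd0] at hJq
  rw [N, N, N, hq, hO]
  change Curv2.euler k _ (Coh.structureModule _) = Curv2.euler k _ (ClSub.idealMod J) + Curv2.euler k _ (ClSub.quotMod J) at hadd
  omega

end SurfNumLib
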