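import Groth.Agent.HodgeIdxLib.Reduce
import Groth.Agent.IntFunLib.NefApps
import Groth.Agent.IntFunLib.StrictNef

/-!
# Degrees on curves as intersection numbers
-/

set_option autoImplicit false
set_option linter.style.haveILetI false
universe u

open CategoryTheory CategoryTheory.Limits AlgebraicGeometry TopologicalSpace Opposite
open HilbPolyLib DevissLib IntMultLib IntFunLib HodgeIdxLib
open KFlatLib (pb)

noncomputable section

namespace SurfNumLib

variable {k : Type u} [Field k] {X : Scheme.{u}} [X.Over (Spec (CommRingCat.of k))]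
  [IsProper (X ↘ Spec (CommRingCat.of k))]

variable (k) in
/-- Degree on a closed integral curve, as a number against the direct image. -/
theorem curveDeg_eq_mul {L : X.Modules} (hL : PicF.IsInvertible L) {Y : Scheme.{u}} (ι : Y ⟶ X)
    [IsClosedImmersion ι] [IsIntegral Y] (hY : topologicalKrullDim Y = 1) :
    topologicalKrullDim (closure ({ι (genericPoint Y)} : Set X)) = ((1 : ℕ) : WithBot ℕ∞) ∧
    ∃ m : ℤ, 0 < m ∧ ∀ M : X.Modules, PicF.IsInvertible M →
      Pic13.curveDeg k (ι ≫ (X ↘ Spec (CommRingCat.of k))) ((Scheme.Modules.pullback ι).obj M) =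
        m * N k [M] (Fpt (ι (genericPoint Y))) := by
  letI : Y.Over (Spec (CommRingCat.of k)) := ⟨ι ≫ (X ↘ Spec (CommRingCat.of k))⟩
  haveI : IsProper (Y ↘ Spec (CommRingCat.of k)) := inferInstanceAs (IsProper (ι ≫ (X ↘ Spec (CommRingCat.of k))))
  haveI := CurvLib.isNoetherian k (X := Y)
  haveI := CurvLib.isNoetherian k (X := X)
  have hc : topologicalKrullDim (closure ({ι (genericPoint Y)} : Set X)) = ((1 : ℕ) : WithBot ℕ∞) := by
    rw [IntFunLib.dim_closure_image, IntFunLib.dim_closure_generic, hY, Nat.cast_one]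
  obtain ⟨m, hm, hmult⟩ := exists_mult (k := k)
    (FormalCohLib.isCoh_push_proper ι (DevissLib.isCoh_structureModule Y))
    (support_push_le ι _ isClosed_closure fun y _ =>
      specializes_iff_mem_closure.mp (((genericPoint_spec Y).specializes trivial).map ι.continuous))
    (mem_support_push_unit ι (genericPoint Y)) hc
  refine ⟨hc, m, hm, fun M hM => ?_⟩
  rw [← hmult [M] (by simpa using hM) rfl,
    ← N_push (k := k) (g := ι) rfl (l := [M]) (by simpa using hM) (DevissLib.isCoh_structureModule Y)
      ((topologicalKrullDim_subspace_le _ _).trans (by rw [hY]; simp))]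
  change _ = N k [pb ι M] (Coh.structureModule Y)
  rw [← euler_sub_eq_N]
  have hd : topologicalKrullDim Y ≤ ((1 : ℕ) : WithBot ℕ∞) := by rw [hY, Nat.cast_one]
  simp only [Pic13.curveDeg]
  rw [eulerCharLE_eq hd, eulerCharLE_eq hd]

variable (k) in
/-- Equal degrees on closed integral curves give equal numbers against curves. -/
theorem N_eq_of_curveDeg {L M : X.Modules} (hL : PicF.IsInvertible L) (hM : PicF.IsInvertible M)
    (h : ∀ (Y : Scheme.{u}) (ι : Y ⟶ X) [IsClosedImmersion ι], IsIntegral Y → topologicalKrullDim Y = 1 →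
      Pic13.curveDeg k (ι ≫ (X ↘ Spec (CommRingCat.of k))) ((Scheme.Modules.pullback ι).obj L) =
        Pic13.curveDeg k (ι ≫ (X ↘ Spec (CommRingCat.of k))) ((Scheme.Modules.pullback ι).obj M))
    {c : X} (hc : topologicalKrullDim (closure ({c} : Set X)) = ((1 : ℕ) : WithBot ℕ∞)) :
    N k [L] (Fpt c) = N k [M] (Fpt c) := by
  haveI := isIntegral_ptIdeal c
  have hC : topologicalKrullDim ((ptIdeal c).support : Set X) = 1 := by rw [dim_ptIdeal, hc, Nat.cast_one]
  have hY : topologicalKrullDim (ptIdeal c).subscheme = 1 := by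
    rw [← hC, ← (ptIdeal c).range_subschemeι]
    exact IsHomeomorph.topologicalKrullDim_eq _ (ptIdeal c).subschemeι.isEmbedding.toHomeomorph.isHomeomorph
  have := h _ (ptIdeal c).subschemeι (isIntegral_ptIdeal c) hY
  rwa [curveDeg_eq hL hC, curveDeg_eq hM hC, ← N_singleton, ← N_singleton] at this

/-- Linear relations on curves pass to modules with one-dimensional support. -/
theorem N_eq_of_curves {L M : X.Modules} (hL : PicF.IsInvertible L) (hM : PicF.IsInvertible M)
    {F : X.Modules} (hF : Coh.IsCoh F) (hd : topologicalKrullDim (CohB1.support F) ≤ ((1 : ℕ) : WithBot ℕ∞))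
    (h : ∀ c : X, topologicalKrullDim (closure ({c} : Set X)) = ((1 : ℕ) : WithBot ℕ∞) →
      N k [L] (Fpt c) = N k [M] (Fpt c)) : N k [L] F = N k [M] F := by
  rcases (CohB1.support F).eq_empty_or_nonempty with he | hne
  · have hlt : topologicalKrullDim (CohB1.support F) < ((1 : ℕ) : WithBot ℕ∞) := by
      rw [he]
      haveI : IsEmpty (IrreducibleCloseds (∅ : Set X)) := ⟨fun c => by
        obtain ⟨x, -⟩ := c.isIrreducible.nonempty
        exact x.2⟩
      exact (Order.krullDim_eq_bot).trans_lt (WithBot.bot_lt_coe _)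
    rw [N_low (l := [L]) (by simpa using hL) hF hlt, N_low (l := [M]) (by simpa using hM) hF hlt]
  obtain ⟨T, hT, -, h1⟩ := N_sum (k := k) (l := [L]) (by simpa using hL) hF hne hd
  obtain ⟨T', hT', -, h2⟩ := N_sum (k := k) (l := [M]) (by simpa using hM) hF hne hd
  have : T = T' := Finset.ext fun y => by
    rw [hT, hT']
    simp
  subst this
  rw [h1, h2]
  exact Finset.sum_congr rfl fun y hy => by rw [h y ((hT y).mp hy).2]

end SurfNumLib
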